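import Mathlib

/-!
`p`-cycles (cycles of prime length `p`) in `p`-groups of permutations.

* `IsPC p σ` : `σ` is a `p`-cycle;
* `supp_eq`, `exists_pow` : two `p`-cycles of a `p`-group whose supports meet generate the same group;
* `exists_pow_on` : an element of a `p`-group which maps a point of the support of a `p`-cycle into the
  support acts as a power of the cycle;
* `iso` : two `p`-cycles normalising a `p`-group `K` which is not trivial on the support of the first one
  generate the same group if their supports meet.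
-/

set_option autoImplicit false

namespace Cfsg.Agent.H289.CycPerm

open Equiv Equiv.Perm

variable {Ω : Type*} [Fintype Ω] [DecidableEq Ω] {p : ℕ} [hp : Fact p.Prime]

omit [Fintype Ω] [DecidableEq Ω] in
theorem inv_app (a : Perm Ω) (w : Ω) : a⁻¹ (a w) = w := Equiv.symm_apply_apply a w

omit [Fintype Ω] [DecidableEq Ω] in
theorem app_inv (a : Perm Ω) (w : Ω) : a (a⁻¹ w) = w := Equiv.apply_symm_apply a w

/-- `σ` is a cycle of length `p` -/
def IsPC (p : ℕ) (σ : Perm Ω) : Prop := σ.IsCycle ∧ σ.support.card = p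

omit hp in
theorem IsPC.conj {σ : Perm Ω} (h : IsPC p σ) (τ : Perm Ω) : IsPC p (τ * σ * τ⁻¹) :=
  ⟨h.1.conj, by rw [card_support_conj]; exact h.2⟩

omit hp in
theorem IsPC.orderOf {σ : Perm Ω} (h : IsPC p σ) : orderOf σ = p := by
  rw [h.1.orderOf, h.2]

omit hp in
theorem IsPC.pow_eq_one {σ : Perm Ω} (h : IsPC p σ) : σ ^ p = 1 := by
  have := pow_orderOf_eq_one σ
  rwa [h.orderOf] at this

omit hp [Fintype Ω] [DecidableEq Ω] in
theorem apply_pow_mem {σ : Perm Ω} {T : Set Ω} (h : ∀ z ∈ T, σ z ∈ T) (n : ℕ) :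
    ∀ z ∈ T, (σ ^ n) z ∈ T := by
  induction n with
  | zero => intro z hz; exact hz
  | succ n ih =>
    intro z hz
    rw [pow_succ', Perm.mul_apply]
    exact h _ (ih z hz)

/-- a `p`-group has no non-trivial orbit on an invariant set of size less than `p` -/
theorem small_orbit {P : Subgroup (Perm Ω)} (hP : IsPGroup p P) {T : Finset Ω} (hT : T.card < p)
    (hinv : ∀ g ∈ P, ∀ z ∈ T, g z ∈ T) {z : Ω} (hz : z ∈ T) : ∀ g ∈ P, g z = z := by
  obtain ⟨n, hn⟩ := hP.card_orbit z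
  have h1 : MulAction.orbit P z ⊆ (T : Set Ω) := by
    rintro _ ⟨g, rfl⟩
    exact hinv g g.2 z hz
  have h2 : Nat.card (MulAction.orbit P z) ≤ T.card := by
    have := Nat.card_mono T.finite_toSet h1
    rwa [Nat.card_coe_set_eq (T : Set Ω), Set.ncard_coe_finset] at this
  have h3 : n = 0 := by
    by_contra hne
    have : p ∣ p ^ n := dvd_pow_self p hne
    have h4 := Nat.le_of_dvd (pow_pos hp.out.pos n) this
    omega
  rw [h3, pow_zero] at hn
  intro g hg
  have h4 : (MulAction.orbit P z).Subsingleton := by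
    have : Subsingleton (MulAction.orbit P z) := (Nat.card_eq_one_iff_unique.1 hn).1
    exact Set.subsingleton_coe _ |>.1 this
  exact h4 ⟨⟨g, hg⟩, rfl⟩ (MulAction.mem_orbit_self z)

theorem small_pow {τ : Perm Ω} {n : ℕ} (hτ : τ ^ p ^ n = 1) {T : Finset Ω} (hT : T.card < p)
    (hinv : ∀ z ∈ T, τ z ∈ T) {z : Ω} (hz : z ∈ T) : τ z = z := by
  have hP : IsPGroup p (Subgroup.zpowers τ) := by
    intro ⟨g, hg⟩
    obtain ⟨k, rfl⟩ := Subgroup.mem_zpowers_iff.1 hg
    refine ⟨n, Subtype.ext ?_⟩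
    show (τ ^ k) ^ p ^ n = 1
    rw [← zpow_natCast, ← zpow_mul, mul_comm, zpow_mul, zpow_natCast, hτ, one_zpow]
  refine small_orbit hP hT ?_ hz τ (Subgroup.mem_zpowers τ)
  intro g hg w hw
  obtain ⟨k, rfl⟩ := mem_powers_iff_mem_zpowers.2 hg
  exact apply_pow_mem (T := (T : Set Ω)) hinv k w hw

/-- the supports of the `p`-cycles of a `p`-group are pairwise equal or disjoint -/
theorem supp_eq {P : Subgroup (Perm Ω)} (hP : IsPGroup p P) {σ σ' : Perm Ω} (h : σ ∈ P)
    (h' : σ' ∈ P) (hc : IsPC p σ) (hc' : IsPC p σ') {x : Ω} (hx : x ∈ σ.support)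
    (hx' : x ∈ σ'.support) : σ.support = σ'.support := by
  have hQ : IsPGroup p (Subgroup.closure {σ, σ'}) := by
    refine hP.to_le ((Subgroup.closure_le _).2 ?_)
    rintro g (rfl | rfl)
    · exact h
    · exact h'
  obtain ⟨n, hn⟩ := hQ.card_orbit x
  have hcl : σ ∈ Subgroup.closure {σ, σ'} := Subgroup.subset_closure (Or.inl rfl)
  have hcl' : σ' ∈ Subgroup.closure {σ, σ'} := Subgroup.subset_closure (Or.inr rfl)
  have h1 : ∀ {τ : Perm Ω}, τ ∈ Subgroup.closure {σ, σ'} → IsPC p τ → x ∈ τ.support →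
      (τ.support : Set Ω) ⊆ MulAction.orbit (Subgroup.closure {σ, σ'}) x := by
    intro τ hτ hcτ hxτ y hy
    obtain ⟨k, hk⟩ := hcτ.1.exists_pow_eq (mem_support.1 hxτ) (mem_support.1 hy)
    exact ⟨⟨τ ^ k, Subgroup.pow_mem _ hτ k⟩, hk⟩
  have h2 : MulAction.orbit (Subgroup.closure {σ, σ'}) x ⊆ ((σ.support ∪ σ'.support : Finset Ω) : Set Ω) := by
    have key : ∀ g ∈ Subgroup.closure {σ, σ'}, ∀ z ∈ σ.support ∪ σ'.support,
        g z ∈ σ.support ∪ σ'.support := by
      have aux : ∀ g : Perm Ω, g = σ ∨ g = σ' → ∀ z ∈ σ.support ∪ σ'.support,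
          g z ∈ σ.support ∪ σ'.support := by
        intro g hg z hz
        by_cases hgz : g z = z
        · rw [hgz]; exact hz
        · have : g z ∈ g.support := by
            rw [mem_support]
            exact fun h => hgz (g.injective h)
          rcases hg with rfl | rfl
          · exact Finset.mem_union_left _ this
          · exact Finset.mem_union_right _ this
      intro g hg
      refine Subgroup.closure_induction (p := fun g _ => ∀ z ∈ σ.support ∪ σ'.support,
        g z ∈ σ.support ∪ σ'.support) ?_ ?_ ?_ ?_ hg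
      · intro g hg; exact aux g hg
      · intro z hz; exact hz
      · intro a b _ _ ha hb z hz
        rw [Perm.mul_apply]
        exact ha _ (hb z hz)
      · intro a _ ha z hz
        have hf : Function.Injective (fun w : (σ.support ∪ σ'.support : Finset Ω) =>
            (⟨a w, ha w w.2⟩ : (σ.support ∪ σ'.support : Finset Ω))) := by
          intro u v huv
          have := congrArg Subtype.val huv
          exact Subtype.ext (a.injective this)
        obtain ⟨w, hw⟩ := (Finite.injective_iff_surjective.1 hf) ⟨z, hz⟩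
        have hw' : a w = z := congrArg Subtype.val hw
        rw [← hw', inv_app]
        exact w.2
    rintro _ ⟨g, rfl⟩
    exact key g g.2 x (Finset.mem_union_left _ hx)
  have h3 : Nat.card (MulAction.orbit (Subgroup.closure {σ, σ'}) x) < 2 * p := by
    have h4 := Nat.card_mono (σ.support ∪ σ'.support).finite_toSet h2
    rw [Nat.card_coe_set_eq ((σ.support ∪ σ'.support : Finset Ω) : Set Ω),
      Set.ncard_coe_finset] at h4
    have h5 : (σ.support ∪ σ'.support).card + (σ.support ∩ σ'.support).card = 2 * p := by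
      rw [Finset.card_union_add_card_inter, hc.2, hc'.2]; ring
    have h6 : 0 < (σ.support ∩ σ'.support).card := Finset.card_pos.2 ⟨x, Finset.mem_inter.2 ⟨hx, hx'⟩⟩
    omega
  have h4 : p ≤ Nat.card (MulAction.orbit (Subgroup.closure {σ, σ'}) x) := by
    have := Nat.card_mono (Set.toFinite _) (h1 hcl hc hx)
    rwa [Nat.card_coe_set_eq (σ.support : Set Ω), Set.ncard_coe_finset, hc.2] at this
  have h5 : Nat.card (MulAction.orbit (Subgroup.closure {σ, σ'}) x) = p := by
    rw [hn] at h3 h4 ⊢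
    have hp2 := hp.out.two_le
    rcases Nat.lt_or_ge n 2 with h6 | h6
    · interval_cases n
      · simp at h4; omega
      · exact pow_one p
    · exfalso
      have : p ^ 2 ≤ p ^ n := Nat.pow_le_pow_right hp.out.pos h6
      nlinarith
  have h6 : ∀ {τ : Perm Ω}, τ ∈ Subgroup.closure {σ, σ'} → IsPC p τ → x ∈ τ.support →
      (τ.support : Set Ω) = MulAction.orbit (Subgroup.closure {σ, σ'}) x := by
    intro τ hτ hcτ hxτ
    refine Set.eq_of_subset_of_ncard_le (h1 hτ hcτ hxτ) ?_ (Set.toFinite _)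
    rw [← Nat.card_coe_set_eq, h5, Set.ncard_coe_finset, hcτ.2]
  have h7 := (h6 hcl hc hx).trans (h6 hcl' hc' hx').symm
  exact_mod_cast h7

theorem exists_pow_on {P : Subgroup (Perm Ω)} (hP : IsPGroup p P) {σ e : Perm Ω} (h : σ ∈ P)
    (he : e ∈ P) (hc : IsPC p σ) {x : Ω} (hx : x ∈ σ.support) (hex : e x ∈ σ.support) :
    ∃ k : ℕ, ∀ z ∈ σ.support, e z = (σ ^ k) z := by
  have hs : (e * σ * e⁻¹).support = σ.support := by
    refine supp_eq hP (Subgroup.mul_mem _ (Subgroup.mul_mem _ he h) (Subgroup.inv_mem _ he)) h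
      (hc.conj e) hc (x := e x) ?_ hex
    rw [support_conj, Finset.mem_map]
    exact ⟨x, hx, rfl⟩
  have hinv : ∀ z ∈ σ.support, e z ∈ σ.support := by
    intro z hz
    rw [← hs, support_conj, Finset.mem_map]
    exact ⟨z, hz, rfl⟩
  obtain ⟨k, hk⟩ := hc.1.exists_pow_eq (mem_support.1 hx) (mem_support.1 hex)
  refine ⟨k, fun z hz => ?_⟩
  have hτP : (σ ^ k)⁻¹ * e ∈ P := P.mul_mem (P.inv_mem (P.pow_mem h k)) he
  obtain ⟨n, hn⟩ := hP ⟨_, hτP⟩
  have hn' : ((σ ^ k)⁻¹ * e) ^ p ^ n = 1 := congrArg Subtype.val hn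
  have hτx : ((σ ^ k)⁻¹ * e) x = x := by
    rw [Perm.mul_apply, ← hk, inv_app]
  by_cases hzx : z = x
  · rw [hzx, hk]
  · have h1 : ((σ ^ k)⁻¹ * e) z = z := by
      refine small_pow hn' (T := σ.support.erase x) ?_ ?_ (Finset.mem_erase.2 ⟨hzx, hz⟩)
      · rw [Finset.card_erase_of_mem hx, hc.2]
        have := hp.out.pos
        omega
      · intro w hw
        rw [Finset.mem_erase] at hw ⊢
        constructor
        · intro h
          apply hw.1
          rw [← hτx] at h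
          exact ((σ ^ k)⁻¹ * e).injective h
        · rw [Perm.mul_apply]
          have h2 := hinv w hw.2
          have h3 : ∀ w ∈ (σ.support : Set Ω), σ⁻¹ w ∈ (σ.support : Set Ω) := by
            intro w hw
            rw [Finset.mem_coe, mem_support] at hw ⊢
            rw [app_inv]
            intro h
            apply hw
            conv_lhs => rw [h, app_inv]
          have h4 := apply_pow_mem h3 k (e w) h2
          rwa [inv_pow] at h4
    have h2 : (σ ^ k) (((σ ^ k)⁻¹ * e) z) = (σ ^ k) z := by rw [h1]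
    rw [← h2, Perm.mul_apply, app_inv]

theorem exists_pow {P : Subgroup (Perm Ω)} (hP : IsPGroup p P) {σ σ' : Perm Ω} (h : σ ∈ P)
    (h' : σ' ∈ P) (hc : IsPC p σ) (hc' : IsPC p σ') {x : Ω} (hx : x ∈ σ.support)
    (hx' : x ∈ σ'.support) : ∃ k : ℕ, σ' = σ ^ k := by
  have hs := supp_eq hP h h' hc hc' hx hx'
  obtain ⟨k, hk⟩ := exists_pow_on hP h h' hc hx (x := x) (by
    rw [hs, mem_support]
    exact fun h => (mem_support.1 hx') (σ'.injective h))
  refine ⟨k, ?_⟩
  ext z
  by_cases hz : z ∈ σ.support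
  · rw [hk z hz]
  · have h1 : σ' z = z := by
      rw [hs] at hz
      exact notMem_support.1 hz
    have h2 : (σ ^ k) z = z := by
      rw [← notMem_support]
      exact fun h => hz (support_pow_le σ k h)
    rw [h1, h2]

/-! ### two `p`-cycles normalising a `p`-group -/

theorem isPGroup_zpowers {σ : Perm Ω} (hc : IsPC p σ) : IsPGroup p (Subgroup.zpowers σ) := by
  refine IsPGroup.of_card (n := 1) ?_
  rw [Nat.card_zpowers, hc.orderOf, pow_one]

omit hp in
theorem IsPC.eq_of_subset {σ σ' : Perm Ω} (hc : IsPC p σ) (hc' : IsPC p σ')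
    (h : σ.support ⊆ σ'.support) : σ.support = σ'.support :=
  Finset.eq_of_subset_of_card_le h (by rw [hc.2, hc'.2])

omit hp in
theorem IsPC.pow_mem {σ : Perm Ω} {z : Ω} (hz : z ∈ σ.support) (k : ℕ) : (σ ^ k) z ∈ σ.support := by
  refine apply_pow_mem (T := (σ.support : Set Ω)) ?_ k z hz
  intro w hw
  rw [Finset.mem_coe, mem_support] at hw ⊢
  exact fun h => hw (σ.injective h)

omit hp [Fintype Ω] [DecidableEq Ω] in
theorem pow_on {e σ : Perm Ω} {T : Set Ω} (hT : ∀ z ∈ T, σ z ∈ T) (h : ∀ z ∈ T, e z = σ z) (i : ℕ) :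
    ∀ z ∈ T, (e ^ i) z = (σ ^ i) z := by
  induction i with
  | zero => intro z _; rfl
  | succ i ih =>
    intro z hz
    rw [pow_succ, pow_succ, Perm.mul_apply, Perm.mul_apply, h z hz]
    exact ih _ (hT z hz)

section

variable {K : Subgroup (Perm Ω)} (hK : IsPGroup p K) {σ σ' : Perm Ω} (hc : IsPC p σ)
  (hc' : IsPC p σ') (hn : σ ∈ Subgroup.normalizer (K : Set (Perm Ω)))
  (hn' : σ' ∈ Subgroup.normalizer (K : Set (Perm Ω)))

include hK hc hn in
theorem isPGroup_sup : IsPGroup p (Subgroup.zpowers σ ⊔ K : Subgroup (Perm Ω)) :=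
  (isPGroup_zpowers hc).to_sup_of_normal_right' hK ((Subgroup.zpowers_le).2 hn)

include hK hc hn in
/-- the translates of the support of a `p`-cycle normalising `K` -/
theorem block {κ : Perm Ω} (hκ : κ ∈ K) {x y : Ω} (hx : x ∈ σ.support) (hκx : κ x ∈ σ.support)
    (hy : y ∈ σ.support) : κ y ∈ σ.support := by
  obtain ⟨k, hk⟩ := exists_pow_on (isPGroup_sup hK hc hn)
    (Subgroup.mem_sup_left (Subgroup.mem_zpowers σ)) (Subgroup.mem_sup_right hκ) hc hx hκx
  rw [hk y hy]
  exact IsPC.pow_mem hy k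

include hn in
theorem comm_mem {κ : Perm Ω} (hκ : κ ∈ K) : κ * σ⁻¹ * κ⁻¹ * σ ∈ K := by
  have h1 : σ⁻¹ * κ⁻¹ * σ ∈ K := by
    have := (Subgroup.mem_normalizer_iff.1 (Subgroup.inv_mem _ hn) κ⁻¹).1 (K.inv_mem hκ)
    simpa using this
  have h2 : κ * σ⁻¹ * κ⁻¹ * σ = κ * (σ⁻¹ * κ⁻¹ * σ) := by group
  rw [h2]
  exact K.mul_mem hκ h1

include hK hc hn in
theorem comm_on {κ : Perm Ω} (hκ : κ ∈ K) {x : Ω} (hx : x ∈ σ.support) (hκx : κ x ∉ σ.support) :
    (∀ z ∈ σ.support, (κ * σ⁻¹ * κ⁻¹ * σ) z = σ z) ∧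
      ∀ z, z ∉ σ.support → κ⁻¹ z ∉ σ.support → (κ * σ⁻¹ * κ⁻¹ * σ) z = z := by
  have hdis : ∀ z ∈ σ.support, κ⁻¹ z ∉ σ.support := by
    intro z hz h
    have h1 : κ (κ⁻¹ z) ∈ σ.support := by rw [app_inv]; exact hz
    exact hκx (block hK hc hn hκ h h1 hx)
  have key : ∀ w, κ⁻¹ w ∉ σ.support → (κ * σ⁻¹ * κ⁻¹) w = w := by
    intro w hw
    rw [Perm.mul_apply, Perm.mul_apply]
    have h1 : σ⁻¹ (κ⁻¹ w) = κ⁻¹ w := by
      rw [notMem_support] at hw
      conv_lhs => rw [← hw]
      rw [inv_app]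
    rw [h1, app_inv]
  constructor
  · intro z hz
    rw [Perm.mul_apply]
    have h1 := IsPC.pow_mem hz 1
    rw [pow_one] at h1
    exact key _ (hdis _ h1)
  · intro z hz hz'
    rw [Perm.mul_apply, notMem_support.1 hz]
    exact key _ hz'

include hK hc hc' hn hn' in
theorem iso_aux (hp2 : p ≠ 2) {x : Ω} (hx : x ∈ σ.support) (hx' : x ∈ σ'.support)
    (hm : ∃ b ∈ σ.support, ∃ κ ∈ K, κ b ≠ b) :
    σ.support = σ'.support ∧ ∃ e ∈ K, e x ∈ σ.support ∧ e x ≠ x := by
  -- `K` moves `x`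
  obtain ⟨κ₀, hκ₀, hx₀⟩ : ∃ κ ∈ K, κ x ≠ x := by
    obtain ⟨b, hb, κ, hκ, hκb⟩ := hm
    obtain ⟨j, hj⟩ := hc.1.exists_pow_eq (mem_support.1 hb) (mem_support.1 hx)
    refine ⟨σ ^ j * κ * (σ ^ j)⁻¹, (Subgroup.mem_normalizer_iff.1 (Subgroup.pow_mem _ hn j) κ).1 hκ, ?_⟩
    rw [Perm.mul_apply, Perm.mul_apply, ← hj, inv_app]
    exact fun h => hκb ((σ ^ j).injective h)
  by_cases hA : ∀ κ ∈ K, κ x ∈ σ.support
  · refine ⟨?_, κ₀, hκ₀, hA κ₀ hκ₀, hx₀⟩
    have hblk : ∀ κ ∈ K, ∀ y ∈ σ.support, κ y ∈ σ.support := fun κ hκ y hy =>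
      block hK hc hn hκ hx (hA κ hκ) hy
    -- `K` is transitive on the support of `σ`
    have htr : ∀ y ∈ σ.support, ∃ κ ∈ K, κ x = y := by
      obtain ⟨k, hk⟩ := exists_pow_on (isPGroup_sup hK hc hn)
        (Subgroup.mem_sup_left (Subgroup.mem_zpowers σ)) (Subgroup.mem_sup_right hκ₀) hc hx (hA κ₀ hκ₀)
      have hkp : ¬ p ∣ k := by
        rintro ⟨l, rfl⟩
        apply hx₀
        rw [hk x hx, pow_mul, hc.pow_eq_one, one_pow, Perm.one_apply]
      intro y hy
      obtain ⟨j, hj⟩ := hc.1.exists_pow_eq (mem_support.1 hx) (mem_support.1 hy)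
      -- `k * i ≡ j`
      obtain ⟨i, hi⟩ : ∃ i : ℕ, (σ ^ k) ^ i = σ ^ j := by
        have h1 : orderOf (σ ^ k) = p := by
          rw [orderOf_pow, hc.orderOf, ((Nat.Prime.coprime_iff_not_dvd hp.out).2 hkp), Nat.div_one]
        have h2 : Subgroup.zpowers (σ ^ k) = Subgroup.zpowers σ := by
          refine Subgroup.eq_of_le_of_card_ge ((Subgroup.zpowers_le).2
            (Subgroup.pow_mem _ (Subgroup.mem_zpowers σ) k)) ?_
          rw [Nat.card_zpowers, Nat.card_zpowers, h1, hc.orderOf]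
        have h3 : σ ^ j ∈ Subgroup.zpowers (σ ^ k) := by
          rw [h2]; exact Subgroup.pow_mem _ (Subgroup.mem_zpowers σ) j
        exact mem_powers_iff_mem_zpowers.2 h3
      refine ⟨κ₀ ^ i, K.pow_mem hκ₀ i, ?_⟩
      rw [pow_on (T := (σ.support : Set Ω)) (fun z hz => IsPC.pow_mem hz k) hk i x hx, hi, hj]
    have hconj : ∀ κ ∈ K, σ' * κ * σ'⁻¹ ∈ K := fun κ hκ => (Subgroup.mem_normalizer_iff.1 hn' κ).1 hκ
    by_cases hs : σ' x ∈ σ.support
    · have h1 : ∀ z ∈ (σ.support : Set Ω), σ' z ∈ (σ.support : Set Ω) := by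
        intro z hz
        obtain ⟨κ, hκ, rfl⟩ := htr z hz
        have h2 : σ' (κ x) = (σ' * κ * σ'⁻¹) (σ' x) := by
          rw [Perm.mul_apply, Perm.mul_apply, inv_app]
        rw [h2]
        exact hblk _ (hconj κ hκ) _ hs
      refine (IsPC.eq_of_subset hc' hc ?_).symm
      intro y hy
      obtain ⟨j, hj⟩ := hc'.1.exists_pow_eq (mem_support.1 hx') (mem_support.1 hy)
      rw [← hj]
      exact apply_pow_mem h1 j x hx
    · exfalso
      have h1 : ∀ z ∈ σ.support, σ' z ∉ σ.support := by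
        intro z hz h
        obtain ⟨κ, hκ, rfl⟩ := htr z hz
        apply hs
        have h2 : σ' x = (σ' * κ⁻¹ * σ'⁻¹) (σ' (κ x)) := by
          rw [Perm.mul_apply, Perm.mul_apply, inv_app, inv_app]
        rw [h2]
        exact hblk _ (hconj _ (K.inv_mem hκ)) _ h
      have h2 : σ.support = σ'.support := IsPC.eq_of_subset hc hc' fun z hz => by
        rw [mem_support]
        intro h
        exact h1 z hz (by rw [h]; exact hz)
      apply hs
      rw [h2]
      have := IsPC.pow_mem hx' 1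
      rwa [pow_one] at this
  · push Not at hA
    obtain ⟨κ₁, hκ₁, hx₁⟩ := hA
    have hx₂ : (κ₁ ^ 2) x ∉ σ.support := by
      intro h
      have h2 : ∀ y ∈ (σ.support : Set Ω), (κ₁ ^ 2) y ∈ (σ.support : Set Ω) := fun y hy =>
        block hK hc hn (K.pow_mem hκ₁ 2) hx h hy
      obtain ⟨n, hn0⟩ := hK ⟨κ₁, hκ₁⟩
      have hn1 : κ₁ ^ p ^ n = 1 := congrArg Subtype.val hn0
      obtain ⟨l, hl⟩ : Odd (p ^ n) := (hp.out.odd_of_ne_two hp2).pow
      have h3 : κ₁ * (κ₁ ^ 2) ^ l = 1 := by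
        rw [← pow_mul, ← pow_succ', ← hl, hn1]
      have h4 : κ₁ (((κ₁ ^ 2) ^ l) x) = x := by
        rw [← Perm.mul_apply, h3, Perm.one_apply]
      have h5 := apply_pow_mem h2 l x hx
      have h6 : κ₁ (((κ₁ ^ 2) ^ l) x) ∈ σ.support := by rw [h4]; exact hx
      exact hx₁ (block hK hc hn hκ₁ h5 h6 hx)
    obtain ⟨a1, b1⟩ := comm_on hK hc hn hκ₁ hx hx₁
    obtain ⟨a2, b2⟩ := comm_on hK hc hn (K.pow_mem hκ₁ 2) hx hx₂
    have m1 := comm_mem hn hκ₁
    have m2 := comm_mem hn (K.pow_mem hκ₁ 2)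
    have hσx : σ x ∈ σ.support := by
      have := IsPC.pow_mem hx 1
      rwa [pow_one] at this
    have key : ∀ e ∈ K, (∀ z ∈ σ.support, e z = σ z) →
        σ.support = σ'.support ∨ ∀ z ∈ σ'.support, e z ≠ z := by
      intro e he hes
      by_cases h1 : σ x ∈ σ'.support
      · left
        have h2 : ∀ z ∈ (σ'.support : Set Ω), e z ∈ (σ'.support : Set Ω) := fun z hz =>
          block hK hc' hn' he hx' (by rw [hes x hx]; exact h1) hz
        refine IsPC.eq_of_subset hc hc' ?_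
        intro y hy
        obtain ⟨j, hj⟩ := hc.1.exists_pow_eq (mem_support.1 hx) (mem_support.1 hy)
        rw [← hj, ← pow_on (T := (σ.support : Set Ω)) (fun z hz => by
          have := IsPC.pow_mem hz 1
          rwa [pow_one] at this) hes j x hx]
        exact apply_pow_mem h2 j x hx'
      · right
        intro z hz h
        have h3 : e z ∈ σ'.support := by rw [h]; exact hz
        have h4 := block hK hc' hn' he hz h3 hx'
        rw [hes x hx] at h4
        exact h1 h4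
    refine ⟨?_, _, m1, by rw [a1 x hx]; exact hσx, by
      rw [a1 x hx]; exact mem_support.1 hx⟩
    rcases key _ m1 a1 with h1 | h1
    · exact h1
    rcases key _ m2 a2 with h2 | h2
    · exact h2
    refine (IsPC.eq_of_subset hc' hc ?_).symm
    intro z hz
    by_contra hzs
    have h3 : κ₁⁻¹ z ∈ σ.support := by
      by_contra h; exact h1 z hz (b1 z hzs h)
    have h4 : (κ₁ ^ 2)⁻¹ z ∈ σ.support := by
      by_contra h; exact h2 z hz (b2 z hzs h)
    have h5 : κ₁⁻¹ (κ₁⁻¹ z) ∈ σ.support := by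
      rw [← Perm.mul_apply, ← mul_inv_rev, ← pow_two]; exact h4
    have h6 : κ₁ (κ₁⁻¹ (κ₁⁻¹ z)) ∈ σ.support := by rw [app_inv]; exact h3
    exact hx₁ (block hK hc hn hκ₁ h5 h6 hx)

include hK hc hc' hn hn' in
/-- **two `p`-cycles normalising a `p`-group** `K` which is not trivial on the support of the first one
generate the same group if their supports meet. -/
theorem iso (hp2 : p ≠ 2) {x : Ω} (hx : x ∈ σ.support) (hx' : x ∈ σ'.support)
    (hm : ∃ b ∈ σ.support, ∃ κ ∈ K, κ b ≠ b) : ∃ k : ℕ, σ' = σ ^ k := by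
  obtain ⟨hs, e, he, hex, hne⟩ := iso_aux hK hc hc' hn hn' hp2 hx hx' hm
  obtain ⟨k, hk⟩ := exists_pow_on (isPGroup_sup hK hc hn)
    (Subgroup.mem_sup_left (Subgroup.mem_zpowers σ)) (Subgroup.mem_sup_right he) hc hx hex
  obtain ⟨l, hl⟩ := exists_pow_on (isPGroup_sup hK hc' hn')
    (Subgroup.mem_sup_left (Subgroup.mem_zpowers σ')) (Subgroup.mem_sup_right he) hc' hx'
    (by rw [← hs]; exact hex)
  have hlp : ¬ p ∣ l := by
    rintro ⟨j, rfl⟩
    apply hne
    rw [hl x hx', pow_mul, hc'.pow_eq_one, one_pow, Perm.one_apply]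
  obtain ⟨i, hi⟩ : ∃ i : ℕ, (σ' ^ l) ^ i = σ' := by
    have h1 : orderOf (σ' ^ l) = p := by
      rw [orderOf_pow, hc'.orderOf, ((Nat.Prime.coprime_iff_not_dvd hp.out).2 hlp), Nat.div_one]
    have h2 : Subgroup.zpowers (σ' ^ l) = Subgroup.zpowers σ' := by
      refine Subgroup.eq_of_le_of_card_ge ((Subgroup.zpowers_le).2
        (Subgroup.pow_mem _ (Subgroup.mem_zpowers σ') l)) ?_
      rw [Nat.card_zpowers, Nat.card_zpowers, h1, hc'.orderOf]
    have h3 : σ' ∈ Subgroup.zpowers (σ' ^ l) := by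
      rw [h2]; exact Subgroup.mem_zpowers σ'
    exact mem_powers_iff_mem_zpowers.2 h3
  refine ⟨k * i, ?_⟩
  ext z
  by_cases hz : z ∈ σ.support
  · have hz' : z ∈ σ'.support := by rw [← hs]; exact hz
    calc σ' z = ((σ' ^ l) ^ i) z := by rw [hi]
      _ = (e ^ i) z := (pow_on (T := (σ'.support : Set Ω)) (fun z hz => IsPC.pow_mem hz l) hl i z hz').symm
      _ = ((σ ^ k) ^ i) z := pow_on (T := (σ.support : Set Ω)) (fun z hz => IsPC.pow_mem hz k) hk i z hz
      _ = (σ ^ (k * i)) z := by rw [pow_mul]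
  · have h1 : σ' z = z := by
      rw [hs] at hz
      exact notMem_support.1 hz
    have h2 : (σ ^ (k * i)) z = z := by
      rw [← notMem_support]
      exact fun h => hz (support_pow_le σ _ h)
    rw [h1, h2]

end

end Cfsg.Agent.H289.CycPerm
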