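import Mathlib
import Cfsg.Agent.FixBN.Gates

/-!
Tools for a chamber system with gates on the Sylow `p`-subgroups of a finite group (`FixBN.Gates.GSys`).

* `Kr S` : the intersection of the members of the panel `S`;
* `mem_iff` : `a ∈ S ↔ Kr S ≤ a`;
* `exists_mem` : a `p`-subgroup normalising `Kr S` lies in a member of `S`;
* `le_kr` : a `p`-subgroup normalised by `N(Kr S)` lies in `Kr S`;
* `const` : a function which is constant on the panels is constant.
-/

set_option autoImplicit false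

open scoped Pointwise

namespace Cfsg.Agent.H289.GSysTools

open Cfsg.Agent.FixBN.Gates

variable {H : Type*} [Group H] {p : ℕ} {Pa : Set (Set (Sylow p H))}
  {d : Sylow p H → Sylow p H → ℕ}

/-- the intersection of the Sylow subgroups of a panel -/
def Kr (S : Set (Sylow p H)) : Subgroup H := ⨅ a ∈ S, (a : Subgroup H)

theorem kr_le {S : Set (Sylow p H)} {a : Sylow p H} (ha : a ∈ S) : Kr S ≤ (a : Subgroup H) :=
  iInf₂_le a ha

theorem kr_isPGroup {S : Set (Sylow p H)} {a : Sylow p H} (ha : a ∈ S) : IsPGroup p (Kr S) :=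
  a.isPGroup'.to_le (kr_le ha)

variable (hG : GSys Pa d) {S : Set (Sylow p H)} (hS : S ∈ Pa)

include hG hS

theorem mem_iff {a : Sylow p H} : a ∈ S ↔ Kr S ≤ (a : Subgroup H) := by
  constructor
  · exact fun h => kr_le h
  · intro h
    obtain ⟨K, hK⟩ := hG.ker S hS
    rw [hK]
    refine le_trans ?_ h
    refine le_iInf₂ fun b hb => ?_
    exact (hK b).1 hb

/-- the normaliser of the kernel stabilises the panel -/
theorem smul_mem {g : H} (hg : g ∈ Subgroup.normalizer (Kr S : Set H)) {a : Sylow p H} (ha : a ∈ S) :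
    g • a ∈ S := by
  rw [mem_iff hG hS]
  intro x hx
  change x ∈ (g • a : Sylow p H)
  rw [mem_smul_iff]
  refine kr_le ha ?_
  have := (Subgroup.mem_normalizer_iff.1 (Subgroup.inv_mem _ hg) x).1 hx
  simpa using this

theorem smul_set {g : H} (hg : g ∈ Subgroup.normalizer (Kr S : Set H)) : g • S = S := by
  ext a
  constructor
  · rintro ⟨b, hb, rfl⟩
    exact smul_mem hG hS hg hb
  · intro ha
    exact ⟨g⁻¹ • a, smul_mem hG hS (Subgroup.inv_mem _ hg) ha, smul_inv_smul g a⟩

omit hG hS in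
theorem mem_normalizer_of_smul {g : H} (hg : g • S = S) : g ∈ Subgroup.normalizer (Kr S : Set H) := by
  have key : ∀ {g : H}, g • S = S → ∀ x ∈ Kr S, g * x * g⁻¹ ∈ Kr S := by
    intro g hg x hx
    rw [Kr, Subgroup.mem_iInf] at hx ⊢
    intro a
    rw [Subgroup.mem_iInf]
    intro ha
    have h1 : g⁻¹ • a ∈ S := by
      rw [← hg] at ha
      obtain ⟨b, hb, rfl⟩ := ha
      change g⁻¹ • (g • b) ∈ S
      rwa [inv_smul_smul]
    have h2 := Subgroup.mem_iInf.1 (hx (g⁻¹ • a)) h1
    change x ∈ (g⁻¹ • a : Sylow p H) at h2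
    rw [mem_smul_iff] at h2
    have h3 : g * x * g⁻¹ ∈ a := by simpa using h2
    exact h3
  rw [Subgroup.mem_normalizer_iff]
  intro x
  refine ⟨fun hx => key hg x hx, fun hx => ?_⟩
  have h1 : g⁻¹ • S = S := by rw [inv_smul_eq_iff, hg]
  have := key h1 _ hx
  simpa [mul_assoc] using this

theorem le_normalizer {a : Sylow p H} (ha : a ∈ S) : (a : Subgroup H) ≤ Subgroup.normalizer (Kr S : Set H) :=
  fun u hu => mem_normalizer_of_smul (hG.self S hS a ha u hu)

/-- `a` is transitive on the other members of the panel -/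
theorem exists_smul {a b c : Sylow p H} (ha : a ∈ S) (hb : b ∈ S) (hc : c ∈ S) (hba : b ≠ a)
    (hca : c ≠ a) : ∃ u ∈ a, u • b = c := by
  obtain ⟨u, hu, _, h⟩ := (hG.gate_self hS ha).tr b hb c hc hba hca
  exact ⟨u, hu, h⟩

/-- the normaliser of the kernel is transitive on the panel -/
theorem exists_smul' {b c : Sylow p H} (hb : b ∈ S) (hc : c ∈ S) :
    ∃ u ∈ Subgroup.normalizer (Kr S : Set H), u • b = c := by
  obtain ⟨a, ha, h1, h2⟩ := hG.three S hS b hb c hc
  obtain ⟨u, hu, h⟩ := exists_smul hG hS ha hb hc h1.symm h2.symm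
  exact ⟨u, le_normalizer hG hS ha hu, h⟩

theorem exists_mem (hne : S.Nonempty) {R : Subgroup H} (hR : IsPGroup p R)
    (hRK : R ≤ Subgroup.normalizer (Kr S : Set H)) : ∃ a ∈ S, R ≤ (a : Subgroup H) := by
  obtain ⟨a₀, ha₀⟩ := hne
  have h1 : IsPGroup p (R ⊔ Kr S : Subgroup H) := hR.to_sup_of_normal_right' (kr_isPGroup ha₀) hRK
  obtain ⟨a, ha⟩ := h1.exists_le_sylow
  exact ⟨a, (mem_iff hG hS).2 (le_sup_right.trans ha), le_sup_left.trans ha⟩

/-- a normal `p`-subgroup of `N(Kr S)` lies in `Kr S` -/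
theorem le_kr (hne : S.Nonempty) {A : Subgroup H} (hA : IsPGroup p A)
    (hAK : A ≤ Subgroup.normalizer (Kr S : Set H))
    (hn : ∀ g ∈ Subgroup.normalizer (Kr S : Set H), ∀ x ∈ A, g * x * g⁻¹ ∈ A) : A ≤ Kr S := by
  obtain ⟨a, ha, hle⟩ := exists_mem hG hS hne hA hAK
  refine le_iInf₂ fun b hb => ?_
  obtain ⟨u, hu, rfl⟩ := exists_smul' hG hS ha hb
  intro x hx
  change x ∈ (u • a : Sylow p H)
  rw [mem_smul_iff]
  refine hle ?_
  have := hn u⁻¹ (Subgroup.inv_mem _ hu) x hx
  simpa using this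

omit hG hS in
/-- a function which is constant on the panels is constant -/
theorem const (hG : GSys Pa d) {α : Type*} (f : Sylow p H → α)
    (hf : ∀ S ∈ Pa, ∀ a ∈ S, ∀ b ∈ S, f a = f b) (a b : Sylow p H) : f a = f b := by
  induction h : d a b using Nat.strong_induction_on generalizing b with
  | _ n ih =>
    by_cases hab : a = b
    · rw [hab]
    · obtain ⟨S, hS, hb, c, hc, _, _, hlt⟩ := hG.desc a b hab
      rw [ih (d a c) (by rw [← h]; exact hlt) c rfl, hf S hS c hc b hb]

omit hG hS in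
theorem mem_smul_conj {a : Sylow p H} {g x : H} (hx : x ∈ a) : g * x * g⁻¹ ∈ (g • a : Sylow p H) := by
  rw [mem_smul_iff]
  have : g⁻¹ * (g * x * g⁻¹) * g = x := by group
  rw [this]
  exact hx

end Cfsg.Agent.H289.GSysTools
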