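import Mathlib
import Cfsg.Agent.H289.CycPerm
import Cfsg.Agent.H289.GSysTools

/-!
A finite group `H` acting on a finite set with a rigid family `X` of `p`-elements which act as `p`-cycles, all
`p`-cycles inside the blocks being realised (`Cyc`), together with a chamber system with gates on the Sylow
`p`-subgroups of `H`.

* `Cyc.mem_kr` : a member of `X` normalising the kernel `K` of a panel lies in `K` or `K` is trivial on its support.
-/

set_option autoImplicit false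

open scoped Pointwise

namespace Cfsg.Agent.H289.CycCore

open Equiv Equiv.Perm
open Cfsg.Agent.FixBN.Gates Cfsg.Agent.H289.CycPerm Cfsg.Agent.H289.GSysTools

/-- `X` : `p`-elements acting as `p`-cycles; `c` : the blocks. -/
structure Cyc {H : Type*} [Group H] (p : ℕ) {Ω ι : Type*} [Fintype Ω] [DecidableEq Ω]
    (φ : H →* Perm Ω) (c : Ω → ι) (X : Set H) : Prop where
  /-- the group permutes the blocks -/
  blk : ∀ (h : H) (x y : Ω), c x = c y → c (φ h x) = c (φ h y)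
  pel : ∀ y ∈ X, ∃ k : ℕ, y ^ p ^ k = 1
  cyc : ∀ y ∈ X, IsPC p (φ y)
  inb : ∀ y ∈ X, ∀ x ∈ (φ y).support, ∀ z ∈ (φ y).support, c x = c z
  conj : ∀ y ∈ X, ∀ h : H, h * y * h⁻¹ ∈ X
  rigid : ∀ y ∈ X, ∀ z ∈ X, φ y = φ z → y = z
  lift : ∀ σ : Perm Ω, IsPC p σ → (∀ x ∈ σ.support, ∀ z ∈ σ.support, c x = c z) → ∃ y ∈ X, φ y = σ

variable {H : Type*} [Group H] {p : ℕ} {Ω ι : Type*} [Fintype Ω] [DecidableEq Ω]
    {φ : H →* Perm Ω} {c : Ω → ι} {X : Set H}

theorem supp_conj (h y : H) : (φ (h * y * h⁻¹)).support = (φ y).support.map (φ h).toEmbedding := by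
  rw [map_mul, map_mul, map_inv, support_conj]

theorem mem_supp_conj {h y : H} {x : Ω} (hx : x ∈ (φ y).support) : φ h x ∈ (φ (h * y * h⁻¹)).support := by
  rw [supp_conj, Finset.mem_map]
  exact ⟨x, hx, rfl⟩

/-- `K` is trivial on the support of `y` -/
def Fx (φ : H →* Perm Ω) (K : Subgroup H) (y : H) : Prop := ∀ x ∈ (φ y).support, ∀ k ∈ K, φ k x = x

theorem Fx.conj {K : Subgroup H} {y g : H} (h : Fx φ K y)
    (hg : g ∈ Subgroup.normalizer (K : Set H)) : Fx φ K (g * y * g⁻¹) := by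
  intro x hx k hk
  rw [supp_conj, Finset.mem_map] at hx
  obtain ⟨z, hz, rfl⟩ := hx
  have h1 : g⁻¹ * k * g ∈ K := by
    have := (Subgroup.mem_normalizer_iff.1 (Subgroup.inv_mem _ hg) k).1 hk
    simpa using this
  have h2 := h z hz _ h1
  change φ k (φ g z) = φ g z
  have h3 : φ g (φ (g⁻¹ * k * g) z) = φ k (φ g z) := by
    rw [← Perm.mul_apply, ← Perm.mul_apply, ← map_mul, ← map_mul]
    congr 2
    group
  rw [← h3, h2]

theorem disjoint_comm {σ τ : Perm Ω} (h : ∀ x ∈ σ.support, x ∉ τ.support) : σ * τ = τ * σ := by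
  have h1 : σ.Disjoint τ := by
    rw [disjoint_iff_disjoint_support, Finset.disjoint_left]
    exact h
  exact h1.commute.eq

namespace Cyc

variable (C : Cyc p φ c X)

include C

theorem comm_of {y z : H} (hz : z ∈ X) (h : φ y * φ z = φ z * φ y) : y * z * y⁻¹ = z := by
  refine C.rigid _ (C.conj z hz y) z hz ?_
  rw [map_mul, map_mul, map_inv, h, mul_inv_cancel_right]

theorem comm_of' {y z : H} (hz : z ∈ X) (h : φ y * φ z = φ z * φ y) : y * z = z * y := by
  have := C.comm_of hz h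
  rw [mul_inv_eq_iff_eq_mul] at this
  exact this

theorem comm_disj {y z : H} (hz : z ∈ X) (h : ∀ x ∈ (φ y).support, x ∉ (φ z).support) :
    y * z = z * y := C.comm_of' hz (disjoint_comm h)

theorem comm_fx {K : Subgroup H} {y : H} (hy : y ∈ X) (hF : Fx φ K y) {k : H} (hk : k ∈ K) :
    k * y = y * k := by
  refine C.comm_disj hy fun x hx hx' => ?_
  exact (mem_support.1 hx) (hF x hx' k hk)

theorem mem_normalizer_of_fx {K : Subgroup H} {y : H} (hy : y ∈ X) (hF : Fx φ K y) :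
    y ∈ Subgroup.normalizer (K : Set H) := by
  rw [Subgroup.mem_normalizer_iff]
  intro k
  have key : ∀ k ∈ K, y * k * y⁻¹ = k := fun k hk => by
    rw [← C.comm_fx hy hF hk, mul_inv_cancel_right]
  constructor
  · intro hk
    rw [key k hk]; exact hk
  · intro hk
    have h1 := key _ hk
    have h2 : y * k * y⁻¹ = k := by
      have h3 : y * (y * k * y⁻¹) * y⁻¹ = y * k * y⁻¹ := h1
      have h4 := mul_right_cancel h3
      exact mul_left_cancel h4
    rw [← h2]; exact hk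

theorem isPGroup_zpowers {y : H} (hy : y ∈ X) : IsPGroup p (Subgroup.zpowers y) := by
  obtain ⟨n, hn⟩ := C.pel y hy
  intro ⟨g, hg⟩
  obtain ⟨k, rfl⟩ := Subgroup.mem_zpowers_iff.1 hg
  refine ⟨n, Subtype.ext ?_⟩
  change (y ^ k) ^ p ^ n = 1
  rw [← zpow_natCast, ← zpow_mul, mul_comm, zpow_mul, zpow_natCast, hn, one_zpow]

/-- members of `X` in a `p`-subgroup with meeting supports -/
theorem exists_pow [hp : Fact p.Prime] {P : Subgroup H} (hP : IsPGroup p P) {y z : H} (hy : y ∈ X)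
    (hz : z ∈ X) (hyP : y ∈ P) (hzP : z ∈ P) {x : Ω} (hx : x ∈ (φ y).support)
    (hx' : x ∈ (φ z).support) : (φ y).support = (φ z).support ∧ ∃ k : ℕ, φ z = φ y ^ k :=
  ⟨supp_eq (hP.map φ) (Subgroup.mem_map_of_mem φ hyP) (Subgroup.mem_map_of_mem φ hzP) (C.cyc y hy)
    (C.cyc z hz) hx hx', CycPerm.exists_pow (hP.map φ) (Subgroup.mem_map_of_mem φ hyP)
      (Subgroup.mem_map_of_mem φ hzP) (C.cyc y hy) (C.cyc z hz) hx hx'⟩

section panel

variable {Pa : Set (Set (Sylow p H))} {d : Sylow p H → Sylow p H → ℕ} (hG : GSys Pa d)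
  {S : Set (Sylow p H)} (hS : S ∈ Pa) (hne : S.Nonempty)

include hG hS hne

theorem exists_mem_panel {y : H} (hy : y ∈ X) (hyK : y ∈ Subgroup.normalizer (Kr S : Set H)) :
    ∃ a ∈ S, y ∈ a := by
  obtain ⟨a, ha, hle⟩ := exists_mem hG hS hne (C.isPGroup_zpowers hy)
    ((Subgroup.zpowers_le).2 hyK)
  exact ⟨a, ha, hle (Subgroup.mem_zpowers y)⟩

/-- **the isolated members of `X`** -/
theorem mem_kr [hp : Fact p.Prime] (hp2 : p ≠ 2) {y : H} (hy : y ∈ X)
    (hyK : y ∈ Subgroup.normalizer (Kr S : Set H)) (hF : ¬ Fx φ (Kr S) y) : y ∈ Kr S := by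
  set K := Kr S with hK
  obtain ⟨a₀, ha₀⟩ := id hne
  have hKp : IsPGroup p (K.map φ) := (kr_isPGroup ha₀).map φ
  have hnor : ∀ g ∈ Subgroup.normalizer (K : Set H), φ g ∈ Subgroup.normalizer ((K.map φ : Subgroup (Perm Ω)) : Set (Perm Ω)) :=
    fun g hg => Subgroup.le_normalizer_map φ ⟨g, hg, rfl⟩
  let Y : Set H := {y | y ∈ X ∧ y ∈ Subgroup.normalizer (K : Set H) ∧ ¬ Fx φ K y}
  have hcomm : ∀ y ∈ Y, ∀ z ∈ Y, y * z = z * y := by
    rintro y ⟨hy, hyK, hyF⟩ z ⟨hz, hzK, hzF⟩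
    by_cases hd : ∀ x ∈ (φ y).support, x ∉ (φ z).support
    · exact C.comm_disj hz hd
    · push Not at hd
      obtain ⟨x, hx, hx'⟩ := hd
      obtain ⟨k, hk⟩ := iso hKp (C.cyc y hy) (C.cyc z hz) (hnor y hyK) (hnor z hzK) hp2 hx hx' (by
        unfold Fx at hyF
        push Not at hyF
        obtain ⟨b, hb, κ, hκ, h⟩ := hyF
        exact ⟨b, hb, φ κ, Subgroup.mem_map_of_mem φ hκ, h⟩)
      refine C.comm_of' hz ?_
      rw [hk, ← pow_succ', ← pow_succ]
  have hA : IsPGroup p (Subgroup.closure Y) := by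
    have hc := Subgroup.isMulCommutative_closure hcomm
    have hc' : ∀ g ∈ Subgroup.closure Y, ∀ h ∈ Subgroup.closure Y, g * h = h * g := fun g hg h hh =>
      congrArg Subtype.val (hc.is_comm.comm ⟨g, hg⟩ ⟨h, hh⟩)
    have key : ∀ g ∈ Subgroup.closure Y, ∃ k : ℕ, g ^ p ^ k = 1 := by
      intro g hg
      refine Subgroup.closure_induction (p := fun g _ => ∃ k : ℕ, g ^ p ^ k = 1) ?_ ?_ ?_ ?_ hg
      · intro g hg; exact C.pel g hg.1
      · exact ⟨0, one_pow _⟩
      · rintro a b ha hb ⟨k, hk⟩ ⟨l, hl⟩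
        refine ⟨k + l, ?_⟩
        rw [(show Commute a b from hc' a ha b hb).mul_pow, pow_add, pow_mul, hk, one_pow, mul_comm (p ^ k),
          pow_mul, hl, one_pow, one_mul]
      · rintro a _ ⟨k, hk⟩
        exact ⟨k, by rw [inv_pow, hk, inv_one]⟩
    rintro ⟨g, hg⟩
    obtain ⟨k, hk⟩ := key g hg
    exact ⟨k, Subtype.ext hk⟩
  refine le_kr hG hS hne hA ((Subgroup.closure_le _).2 fun y hy => hy.2.1) ?_
    (Subgroup.subset_closure ⟨hy, hyK, hF⟩)
  intro g hg x hx
  have h1 : Subgroup.closure Y ≤ (Subgroup.closure Y).comap (MulAut.conj g).toMonoidHom := by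
    rw [Subgroup.closure_le]
    rintro y ⟨hy, hyK, hyF⟩
    refine Subgroup.subset_closure ⟨C.conj y hy g, ?_, ?_⟩
    · exact Subgroup.mul_mem _ (Subgroup.mul_mem _ hg hyK) (Subgroup.inv_mem _ hg)
    · intro h
      apply hyF
      have := h.conj (Subgroup.inv_mem _ hg)
      have h2 : g⁻¹ * (MulAut.conj g).toMonoidHom y * g⁻¹⁻¹ = y := by
        change g⁻¹ * (g * y * g⁻¹) * g⁻¹⁻¹ = y
        group
      rwa [h2] at this
  exact h1 hx

end panel

end Cyc

end Cfsg.Agent.H289.CycCore
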