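import Mathlib
import Cfsg.Agent.H289.CycCore

/-!
`Cyc` with gates, `p ≥ 5`.
-/

set_option autoImplicit false

open scoped Pointwise

namespace Cfsg.Agent.H289.CycBig

open Equiv Equiv.Perm
open Cfsg.Agent.FixBN.Gates Cfsg.Agent.H289.CycPerm Cfsg.Agent.H289.GSysTools
open Cfsg.Agent.H289.CycCore

section count

variable {Ω : Type*} [Fintype Ω] [DecidableEq Ω] {p : ℕ} [hp : Fact p.Prime]

/-- the number of `p`-cycles on a finite set -/
theorem count_pc (F : Finset Ω) (h : p ≤ F.card) :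
    (p - 1).factorial * F.card.choose p ≤ {σ : Perm Ω | IsPC p σ ∧ σ.support ⊆ F}.ncard := by
  have h1 := card_of_cycleType_singleton (α := F) (n := p) hp.out.two_le (by rwa [Fintype.card_coe])
  rw [Fintype.card_coe] at h1
  rw [← h1, ← Set.ncard_coe_finset]
  refine Set.ncard_le_ncard_of_injOn (fun g => ofSubtype g) ?_ ?_ (Set.toFinite _)
  · intro g hg
    rw [Finset.mem_coe, Finset.mem_filter] at hg
    have h2 : (ofSubtype g : Perm Ω).cycleType = {p} := by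
      rw [cycleType_ofSubtype]; exact hg.2
    refine ⟨⟨?_, ?_⟩, ?_⟩
    · rw [← card_cycleType_eq_one, h2, Multiset.card_singleton]
    · rw [← sum_cycleType, h2, Multiset.sum_singleton]
    · intro x hx
      by_contra hxF
      exact (mem_support.1 hx) (ofSubtype_apply_of_not_mem g hxF)
  · intro a _ b _ hab
    exact ofSubtype_injective hab

theorem exists_pc (F : Finset Ω) (h : p ≤ F.card) : ∃ σ : Perm Ω, IsPC p σ ∧ σ.support ⊆ F := by
  have h1 := count_pc F h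
  have h2 : 0 < (p - 1).factorial * F.card.choose p :=
    Nat.mul_pos (Nat.factorial_pos _) (Nat.choose_pos h)
  obtain ⟨σ, hσ⟩ := Set.nonempty_of_ncard_ne_zero (Nat.pos_iff_ne_zero.1 (lt_of_lt_of_le h2 h1))
  exact ⟨σ, hσ⟩

/-- the powers of a `p`-cycle which are `p`-cycles -/
theorem exists_lt {σ τ : Perm Ω} (hc : IsPC p σ) (hτ : IsPC p τ) {k : ℕ} (h : τ = σ ^ k) :
    ∃ j ∈ Finset.Ico 1 p, τ = σ ^ j := by
  refine ⟨k % p, ?_, ?_⟩
  · rw [Finset.mem_Ico]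
    refine ⟨?_, Nat.mod_lt _ hp.out.pos⟩
    rw [Nat.one_le_iff_ne_zero]
    intro h0
    obtain ⟨l, rfl⟩ := Nat.dvd_of_mod_eq_zero h0
    rw [pow_mul, hc.pow_eq_one, one_pow] at h
    have h1 := hτ.1.ne_one
    exact h1 h
  · rw [h]
    conv_lhs => rw [← Nat.mod_add_div k p, pow_add, pow_mul, hc.pow_eq_one, one_pow, mul_one]

theorem exists_not_pow (hp5 : 5 ≤ p) {σ : Perm Ω} (hc : IsPC p σ) :
    ∃ τ : Perm Ω, IsPC p τ ∧ τ.support = σ.support ∧ ∀ k : ℕ, τ ≠ σ ^ k := by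
  by_contra hcon
  push Not at hcon
  have h1 := count_pc (p := p) σ.support hc.2.ge
  rw [hc.2, Nat.choose_self, mul_one] at h1
  have h2 : {τ : Perm Ω | IsPC p τ ∧ τ.support ⊆ σ.support} ⊆
      ((Finset.Ico 1 p).image fun k => σ ^ k : Finset (Perm Ω)) := by
    rintro τ ⟨h3, h4⟩
    obtain ⟨k, hk⟩ := hcon τ h3 (IsPC.eq_of_subset h3 hc h4)
    obtain ⟨j, hj, hj'⟩ := exists_lt hc h3 hk
    exact Finset.mem_coe.2 (Finset.mem_image.2 ⟨j, hj, hj'.symm⟩)
  have h3 := Set.ncard_le_ncard h2 (Set.toFinite _)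
  rw [Set.ncard_coe_finset] at h3
  have h3 := h3.trans Finset.card_image_le
  rw [Nat.card_Ico] at h3
  have h4 : (p - 1).factorial = (p - 1) * (p - 2).factorial := by
    obtain ⟨q, rfl⟩ : ∃ q, p = q + 2 := ⟨p - 2, by omega⟩
    rfl
  have h5 : 2 ≤ (p - 2).factorial := by
    calc 2 = Nat.factorial 2 := rfl
      _ ≤ (p - 2).factorial := Nat.factorial_le (by omega)
  have h6 : (p - 1) * 2 ≤ (p - 1).factorial := by rw [h4]; exact Nat.mul_le_mul_left _ h5
  have h7 := h1.trans h3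
  omega

/-- a `p`-cycle normalising the group of a `p`-cycle with the same support -/
theorem pow_of_conj {σ τ : Perm Ω} (hc : IsPC p σ) (hτ : IsPC p τ) (hs : τ.support = σ.support)
    {k : ℕ} (h : τ * σ * τ⁻¹ = σ ^ k) : ∃ l : ℕ, τ = σ ^ l := by
  have hn : τ ∈ Subgroup.normalizer (Subgroup.zpowers σ : Set (Perm Ω)) := by
    have h1 : (Subgroup.zpowers σ).map (MulAut.conj τ).toMonoidHom = Subgroup.zpowers σ := by
      refine Subgroup.eq_of_le_of_card_ge ?_ ?_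
      · rw [MonoidHom.map_zpowers, Subgroup.zpowers_le]
        change τ * σ * τ⁻¹ ∈ _
        rw [h]
        exact Subgroup.pow_mem _ (Subgroup.mem_zpowers σ) k
      · rw [Subgroup.card_map_of_injective (MulAut.conj τ).injective]
    rw [Subgroup.mem_normalizer_iff]
    intro x
    conv_rhs => rw [← h1]
    constructor
    · intro hx; exact ⟨x, hx, rfl⟩
    · rintro ⟨y, hy, hyx⟩
      have : y = x := (MulAut.conj τ).injective hyx
      rwa [← this]
  obtain ⟨x, hx⟩ : σ.support.Nonempty := by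
    rw [← Finset.card_pos, hc.2]; exact hp.out.pos
  have hP : IsPGroup p (Subgroup.zpowers τ ⊔ Subgroup.zpowers σ : Subgroup (Perm Ω)) :=
    (CycPerm.isPGroup_zpowers hτ).to_sup_of_normal_right' (CycPerm.isPGroup_zpowers hc)
      ((Subgroup.zpowers_le).2 hn)
  exact CycPerm.exists_pow hP (Subgroup.mem_sup_right (Subgroup.mem_zpowers σ))
    (Subgroup.mem_sup_left (Subgroup.mem_zpowers τ)) hc hτ hx (by rw [hs]; exact hx)

end count

variable {H : Type*} [Group H] {p : ℕ} [hp : Fact p.Prime] {Ω ι : Type*} [Fintype Ω] [DecidableEq Ω]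
    {φ : H →* Perm Ω} {c : Ω → ι} {X : Set H} (C : Cyc p φ c X)
    {Pa : Set (Set (Sylow p H))} {d : Sylow p H → Sylow p H → ℕ} (hG : GSys Pa d)
    {S : Set (Sylow p H)} (hS : S ∈ Pa) (hne : S.Nonempty)

include C

/-- no Sylow subgroup contains `y` and `z y z⁻¹` -/
theorem no_conj {y z : H} (hy : y ∈ X) (hz : z ∈ X) (hs : (φ z).support = (φ y).support)
    (hnp : ∀ k : ℕ, φ z ≠ φ y ^ k) {Q : Sylow p H} {w : H} (hwX : w ∈ X) (hwQ : w ∈ Q)
    (hw : ∃ k : ℕ, φ w = φ y ^ k) (hcQ : z * y * z⁻¹ ∈ Q) : False := by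
  obtain ⟨k, hk⟩ := hw
  obtain ⟨x, hx⟩ : (φ w).support.Nonempty := by
    rw [← Finset.card_pos, (C.cyc w hwX).2]; exact hp.out.pos
  have hwy : (φ w).support = (φ y).support := by
    refine IsPC.eq_of_subset (C.cyc w hwX) (C.cyc y hy) ?_
    rw [hk]; exact support_pow_le _ _
  have hx' : x ∈ (φ (z * y * z⁻¹)).support := by
    have h1 : (φ (z * y * z⁻¹)).support = (φ y).support := by
      rw [supp_conj]
      ext t
      rw [Finset.mem_map]
      constructor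
      · rintro ⟨s, hs', rfl⟩
        rw [← hs] at hs' ⊢
        have := IsPC.pow_mem hs' 1
        rwa [pow_one] at this
      · intro ht
        rw [← hs] at ht
        refine ⟨(φ z)⁻¹ t, ?_, by change φ z ((φ z)⁻¹ t) = t; rw [app_inv]⟩
        rw [← hs, mem_support, app_inv]
        intro h
        apply mem_support.1 ht
        conv_lhs => rw [h, app_inv]
    rw [h1, ← hwy]; exact hx
  obtain ⟨-, l, hl⟩ := C.exists_pow Q.isPGroup' hwX (C.conj y hy z) hwQ hcQ hx hx'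
  rw [hk, ← pow_mul, map_mul, map_mul, map_inv] at hl
  obtain ⟨j, hj⟩ := pow_of_conj (C.cyc y hy) (C.cyc z hz) hs hl
  exact hnp j hj

include hG hS hne

/-- two disjoint supports outside the kernel -/
theorem two_supports (hp5 : 5 ≤ p) [Finite H] {y₁ y₂ : H} (h1 : y₁ ∈ X) (h2 : y₂ ∈ X)
    (f1 : Fx φ (Kr S) y₁) (f2 : Fx φ (Kr S) y₂)
    (hd : ∀ x ∈ (φ y₁).support, x ∉ (φ y₂).support) : False := by
  have hcomm : y₁ * y₂ = y₂ * y₁ := C.comm_disj h2 hd
  -- a member of the panel containing both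
  obtain ⟨P, hP, hle⟩ : ∃ P ∈ S, Subgroup.zpowers y₁ ⊔ Subgroup.zpowers y₂ ≤ (P : Subgroup H) := by
    refine exists_mem hG hS hne ?_ (sup_le ((Subgroup.zpowers_le).2 (C.mem_normalizer_of_fx h1 f1))
      ((Subgroup.zpowers_le).2 (C.mem_normalizer_of_fx h2 f2)))
    refine (C.isPGroup_zpowers h1).to_sup_of_normal_right' (C.isPGroup_zpowers h2) ?_
    rw [Subgroup.zpowers_le, Subgroup.mem_normalizer_iff]
    intro x
    have key : ∀ x ∈ Subgroup.zpowers y₂, y₁ * x * y₁⁻¹ = x := by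
      intro x hx
      obtain ⟨k, rfl⟩ := Subgroup.mem_zpowers_iff.1 hx
      rw [((show Commute y₁ y₂ from hcomm).zpow_right k).eq, mul_inv_cancel_right]
    constructor
    · intro hx
      rw [key x hx]; exact hx
    · intro hx
      have h3 := key _ hx
      have h4 : y₁ * x * y₁⁻¹ = x := by
        have h5 : y₁ * (y₁ * x * y₁⁻¹) * y₁⁻¹ = y₁ * x * y₁⁻¹ := h3
        exact mul_left_cancel (mul_right_cancel h5)
      rw [← h4]; exact hx
  have hy1P : y₁ ∈ P := hle (Subgroup.mem_sup_left (Subgroup.mem_zpowers y₁))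
  have hy2P : y₂ ∈ P := hle (Subgroup.mem_sup_right (Subgroup.mem_zpowers y₂))
  have hsel : ∀ y ∈ X, Fx φ (Kr S) y → ∃ z ∈ X, Fx φ (Kr S) z ∧ (φ z).support = (φ y).support ∧
      ∀ k : ℕ, φ z ≠ φ y ^ k := by
    intro y hy hf
    obtain ⟨τ, hτ, hs, hk⟩ := exists_not_pow hp5 (C.cyc y hy)
    obtain ⟨z, hz, rfl⟩ := C.lift τ hτ (by rw [hs]; exact C.inb y hy)
    exact ⟨z, hz, by unfold Fx; rw [hs]; exact hf, hs, hk⟩
  obtain ⟨z₁, hz1, fz1, hs1, hn1⟩ := hsel y₁ h1 f1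
  obtain ⟨z₂, hz2, fz2, hs2, hn2⟩ := hsel y₂ h2 f2
  have hzK1 := C.mem_normalizer_of_fx hz1 fz1
  have hzK2 := C.mem_normalizer_of_fx hz2 fz2
  have c12 : z₁ * y₂ = y₂ * z₁ := C.comm_disj h2 (by rw [hs1]; exact hd)
  have c21 : z₂ * y₁ = y₁ * z₂ := C.comm_disj h1 (by
    rw [hs2]; intro x hx hx'; exact hd x hx' hx)
  have c12z : z₁ * z₂ = z₂ * z₁ := C.comm_disj hz2 (by rw [hs1, hs2]; exact hd)
  have hP1 : z₁ • P ∈ S := smul_mem hG hS hzK1 hP
  have hP2 : z₁ • z₂ • P ∈ S := smul_mem hG hS hzK1 (smul_mem hG hS hzK2 hP)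
  have m11 : z₁ * y₁ * z₁⁻¹ ∈ z₁ • P := mem_smul_conj hy1P
  have m21 : z₁ * y₁ * z₁⁻¹ ∈ z₁ • z₂ • P := by
    have h3 := mem_smul_conj (g := z₁) (mem_smul_conj (g := z₂) hy1P)
    rw [c21, mul_inv_cancel_right] at h3
    exact h3
  have m22 : z₂ * y₂ * z₂⁻¹ ∈ z₁ • z₂ • P := by
    have h3 := mem_smul_conj (g := z₁) (mem_smul_conj (g := z₂) hy2P)
    have h4 : z₁ * (z₂ * y₂ * z₂⁻¹) * z₁⁻¹ = z₂ * y₂ * z₂⁻¹ := by
      have h5 : z₁ * (z₂ * y₂ * z₂⁻¹) * z₁⁻¹ = z₁ * z₂ * y₂ * (z₁ * z₂)⁻¹ := by group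
      rw [h5, c12z]
      have h6 : z₂ * z₁ * y₂ * (z₂ * z₁)⁻¹ = z₂ * (z₁ * y₂ * z₁⁻¹) * z₂⁻¹ := by group
      rw [h6, c12, mul_inv_cancel_right]
    rw [h4] at h3
    exact h3
  have hne1 : z₁ • P ≠ P := by
    intro h
    rw [h] at m11
    exact no_conj C h1 hz1 hs1 hn1 h1 hy1P ⟨1, (pow_one _).symm⟩ m11
  have hne2 : z₁ • z₂ • P ≠ P := by
    intro h
    rw [h] at m21
    exact no_conj C h1 hz1 hs1 hn1 h1 hy1P ⟨1, (pow_one _).symm⟩ m21
  obtain ⟨u, hu, huP⟩ := exists_smul hG hS hP hP1 hP2 hne1 hne2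
  -- the sets of members of `X`
  let A₁ : Set H := {w | w ∈ X ∧ w ∈ P ∧ w ∈ z₁ • P}
  let A₂ : Set H := {w | w ∈ X ∧ w ∈ P ∧ w ∈ z₁ • z₂ • P}
  have hlt : A₂ ⊂ A₁ := by
    refine (Set.ssubset_iff_of_subset ?_).2 ⟨y₂, ⟨h2, hy2P, ?_⟩, ?_⟩
    · rintro w ⟨hwX, hwP, hw2⟩
      refine ⟨hwX, hwP, ?_⟩
      by_cases hw : ∀ x ∈ (φ w).support, x ∉ (φ y₁).support
      · have h3 : z₁ * w = w * z₁ := C.comm_disj hwX (by
          rw [hs1]; intro x hx hx'; exact hw x hx' hx)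
        have := mem_smul_conj (g := z₁) hwP
        rwa [h3, mul_inv_cancel_right] at this
      · exfalso
        push Not at hw
        obtain ⟨x, hx, hx'⟩ := hw
        obtain ⟨-, k, hk⟩ := C.exists_pow P.isPGroup' h1 hwX hy1P hwP hx' hx
        exact no_conj C h1 hz1 hs1 hn1 hwX hw2 ⟨k, hk⟩ m21
    · have := mem_smul_conj (g := z₁) hy2P
      rwa [c12, mul_inv_cancel_right] at this
    · rintro ⟨-, -, h3⟩
      exact no_conj C h2 hz2 hs2 hn2 h2 h3 ⟨1, (pow_one _).symm⟩ m22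
  have hle2 : A₁.ncard ≤ A₂.ncard := by
    refine Set.ncard_le_ncard_of_injOn (fun w => u * w * u⁻¹) ?_ ?_ (Set.toFinite _)
    · rintro w ⟨hwX, hwP, hw1⟩
      refine ⟨C.conj w hwX u, mul_mem (mul_mem hu hwP) (inv_mem hu), ?_⟩
      rw [← huP]
      exact mem_smul_conj hw1
    · intro a _ b _ hab
      exact mul_left_cancel (mul_right_cancel hab)
  exact absurd (Set.ncard_lt_ncard hlt (Set.toFinite _)) (by omega)

omit hp C hG hS hne in
open Classical in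
/-- the fixed points of `K` in the block `i` -/
noncomputable def FI (φ : H →* Perm Ω) (c : Ω → ι) (K : Subgroup H) (i : ι) : Finset Ω :=
  Finset.univ.filter fun x => c x = i ∧ ∀ k ∈ K, φ k x = x

omit hp [DecidableEq Ω] C hG hS hne in
theorem mem_FI {K : Subgroup H} {i : ι} {x : Ω} :
    x ∈ FI φ c K i ↔ c x = i ∧ ∀ k ∈ K, φ k x = x := by
  classical
  unfold FI
  simp

omit hp C hG hS hne in
theorem FI_normalizer {K : Subgroup H} {x : Ω} (hx : ∀ k ∈ K, φ k x = x) {g : H}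
    (hg : g ∈ Subgroup.normalizer (K : Set H)) : ∀ k ∈ K, φ k (φ g x) = φ g x := by
  intro k hk
  have h1 : g⁻¹ * k * g ∈ K := by
    have := (Subgroup.mem_normalizer_iff.1 (Subgroup.inv_mem _ hg) k).1 hk
    simpa using this
  have h2 := hx _ h1
  have h3 : φ g (φ (g⁻¹ * k * g) x) = φ k (φ g x) := by
    rw [← Perm.mul_apply, ← Perm.mul_apply, ← map_mul, ← map_mul]
    congr 2
    group
  rw [← h3, h2]

omit hp hG hS hne in
theorem supp_le_FI {K : Subgroup H} {y : H} (hy : y ∈ X) (f : Fx φ K y) {x₀ : Ω}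
    (hx₀ : x₀ ∈ (φ y).support) : (φ y).support ⊆ FI φ c K (c x₀) := fun x hx =>
  mem_FI.2 ⟨C.inb y hy x hx x₀ hx₀, fun k hk => f x hx k hk⟩

omit hp C hG hS hne in
theorem fx_of_le {K : Subgroup H} {y : H} {i : ι} (h : (φ y).support ⊆ FI φ c K i) : Fx φ K y :=
  fun x hx k hk => (mem_FI.1 (h hx)).2 k hk

omit hp hG hS hne in
theorem lift_FI {K : Subgroup H} {i : ι} {σ : Perm Ω} (hσ : IsPC p σ) (h : σ.support ⊆ FI φ c K i) :
    ∃ z ∈ X, φ z = σ ∧ Fx φ K z := by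
  obtain ⟨z, hz, rfl⟩ := C.lift σ hσ fun x hx w hw => by
    rw [(mem_FI.1 (h hx)).1, (mem_FI.1 (h hw)).1]
  exact ⟨z, hz, rfl, fx_of_le h⟩

variable [Finite H] (hp5 : 5 ≤ p) {y : H} (hy : y ∈ X) (f : Fx φ (Kr S) y) {x₀ : Ω}
  (hx₀ : x₀ ∈ (φ y).support)

include hp5 hy f hx₀

theorem FI_card : (FI φ c (Kr S) (c x₀)).card < 2 * p := by
  by_contra hcon
  have h1 := supp_le_FI C hy f hx₀
  have h2 : p ≤ (FI φ c (Kr S) (c x₀) \ (φ y).support).card := by
    rw [Finset.card_sdiff_of_subset h1, (C.cyc y hy).2]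
    omega
  obtain ⟨σ, hσ, hσs⟩ := exists_pc _ h2
  obtain ⟨z, hz, rfl, hzf⟩ := lift_FI C (K := Kr S) (i := c x₀) hσ (hσs.trans Finset.sdiff_subset)
  refine two_supports C hG hS hne hp5 hy hz f hzf fun x hx hx' => ?_
  exact (Finset.mem_sdiff.1 (hσs hx')).2 hx

omit hx₀ in
/-- any other such support meets the support of `y` -/
theorem meets {z : H} (hz : z ∈ X) (fz : Fx φ (Kr S) z) : ∃ x ∈ (φ y).support, x ∈ (φ z).support := by
  by_contra hcon
  push Not at hcon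
  exact two_supports C hG hS hne hp5 hy hz f fz hcon

/-- the members of `P ∋ y` act on `FI` as powers of `y` -/
theorem acts {P : Sylow p H} (hP : P ∈ S) (hyP : y ∈ P) {u : H} (hu : u ∈ P) :
    ∃ k : ℕ, ∀ x ∈ FI φ c (Kr S) (c x₀), φ u x = (φ y ^ k) x := by
  have huK := le_normalizer hG hS hP hu
  have hyK := le_normalizer hG hS hP hyP
  have h1 := C.conj y hy u
  obtain ⟨x, hx, hx'⟩ := meets C hG hS hne hp5 hy f h1 (f.conj huK)
  obtain ⟨hs, -⟩ := C.exists_pow P.isPGroup' hy h1 hyP (mul_mem (mul_mem hu hyP) (inv_mem hu)) hx hx'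
  have hux : φ u x₀ ∈ (φ y).support := by
    rw [hs]; exact mem_supp_conj hx₀
  have hPm : IsPGroup p ((P : Subgroup H).map φ) := P.isPGroup'.map φ
  obtain ⟨k, hk⟩ := exists_pow_on hPm (Subgroup.mem_map_of_mem φ hyP) (Subgroup.mem_map_of_mem φ hu)
    (C.cyc y hy) hx₀ hux
  refine ⟨k, fun w hw => ?_⟩
  by_cases hwy : w ∈ (φ y).support
  · exact hk w hwy
  -- `τ = y ^ (-k) u` is trivial on the support of `y`
  have hτP : (y ^ k)⁻¹ * u ∈ P := mul_mem (inv_mem (pow_mem hyP k)) hu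
  have hτy : ∀ z ∈ (φ y).support, φ ((y ^ k)⁻¹ * u) z = z := by
    intro z hz
    rw [map_mul, Perm.mul_apply, hk z hz, map_inv, map_pow, inv_app]
  obtain ⟨n, hn⟩ := P.isPGroup' ⟨_, hτP⟩
  have hn' : ((y ^ k)⁻¹ * u) ^ p ^ n = 1 := congrArg Subtype.val hn
  have hinv : ∀ z ∈ FI φ c (Kr S) (c x₀) \ (φ y).support,
      φ ((y ^ k)⁻¹ * u) z ∈ FI φ c (Kr S) (c x₀) \ (φ y).support := by
    intro z hz
    rw [Finset.mem_sdiff] at hz ⊢
    obtain ⟨hz1, hz2⟩ := hz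
    rw [mem_FI] at hz1
    refine ⟨mem_FI.2 ⟨?_, ?_⟩, ?_⟩
    · have h2 := C.blk ((y ^ k)⁻¹ * u) z x₀ hz1.1
      rw [h2, hτy x₀ hx₀]
    · exact FI_normalizer hz1.2 (le_normalizer hG hS hP hτP)
    · intro h2
      apply hz2
      have h3 := hτy _ h2
      have h4 := (φ ((y ^ k)⁻¹ * u)).injective h3
      rwa [h4] at h2
  have hcard : (FI φ c (Kr S) (c x₀) \ (φ y).support).card < p := by
    rw [Finset.card_sdiff_of_subset (supp_le_FI C hy f hx₀), (C.cyc y hy).2]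
    have := FI_card C hG hS hne hp5 hy f hx₀
    omega
  have h2 : φ ((y ^ k)⁻¹ * u) w = w :=
    small_pow (n := n) (by rw [← map_pow, hn', map_one]) hcard hinv (Finset.mem_sdiff.2 ⟨hw, hwy⟩)
  rw [map_mul, Perm.mul_apply, map_inv, map_pow] at h2
  have h3 : (φ y ^ k) ((φ y ^ k)⁻¹ (φ u w)) = (φ y ^ k) w := by rw [h2]
  rwa [app_inv] at h3

theorem panel_card : S.ncard ≤ p + 1 := by
  obtain ⟨P, hP, hyP⟩ := C.exists_mem_panel hG hS hne hy (C.mem_normalizer_of_fx hy f)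
  obtain ⟨τ, hτ, hs, hk⟩ := exists_not_pow hp5 (C.cyc y hy)
  obtain ⟨z, hz, rfl⟩ := C.lift τ hτ (by rw [hs]; exact C.inb y hy)
  have fz : Fx φ (Kr S) z := by unfold Fx; rw [hs]; exact f
  have hzK := C.mem_normalizer_of_fx hz fz
  have hzP : z • P ∈ S := smul_mem hG hS hzK hP
  have hzPne : z • P ≠ P := by
    intro h
    have h1 : z * y * z⁻¹ ∈ z • P := mem_smul_conj hyP
    rw [h] at h1
    exact no_conj C hy hz hs hk hy hyP ⟨1, (pow_one _).symm⟩ h1
  have hcomm : ∀ u ∈ P, ∃ k : ℕ, u • z • P = y ^ k • z • P := by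
    intro u hu
    obtain ⟨k, hk⟩ := acts C hG hS hne hp5 hy f hx₀ hP hyP hu
    refine ⟨k, ?_⟩
    have h1 : (y ^ k)⁻¹ * u * z = z * ((y ^ k)⁻¹ * u) := by
      refine C.comm_disj hz fun x hx hx' => ?_
      have h2 : x ∈ FI φ c (Kr S) (c x₀) := by
        rw [hs] at hx'
        exact supp_le_FI C hy f hx₀ hx'
      apply mem_support.1 hx
      rw [map_mul, Perm.mul_apply, hk x h2, map_inv, map_pow, inv_app]
    have h2 : u = y ^ k * ((y ^ k)⁻¹ * u) := by group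
    have h3 : (y ^ k)⁻¹ * u ∈ P := mul_mem (inv_mem (pow_mem hyP k)) hu
    conv_lhs => rw [h2]
    rw [mul_smul, ← mul_smul _ z P, h1, mul_smul z, smul_self h3]
  have hyp : y ^ p • z • P = z • P := by
    have h1 : y ^ p * z = z * y ^ p := by
      refine C.comm_of' hz ?_
      rw [map_pow, (C.cyc y hy).pow_eq_one, one_mul, mul_one]
    rw [← mul_smul, h1, mul_smul, smul_self (pow_mem hyP p)]
  have hsub : S ⊆ insert P ((fun k : ℕ => y ^ k • z • P) '' (Finset.range p : Set ℕ)) := by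
    intro Q hQ
    by_cases hQP : Q = P
    · exact Or.inl hQP
    · right
      obtain ⟨u, hu, rfl⟩ := exists_smul hG hS hP hzP hQ hzPne hQP
      obtain ⟨k, hk⟩ := hcomm u hu
      refine ⟨k % p, Finset.mem_coe.2 (Finset.mem_range.2 (Nat.mod_lt _ hp.out.pos)), ?_⟩
      change y ^ (k % p) • z • P = u • z • P
      rw [hk]
      have h1 : ∀ l : ℕ, (y ^ p) ^ l • z • P = z • P := by
        intro l
        induction l with
        | zero => rw [pow_zero, one_smul]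
        | succ l ih => rw [pow_succ, mul_smul, hyp, ih]
      conv_rhs => rw [← Nat.mod_add_div k p, pow_add, pow_mul, mul_smul, h1]
  calc S.ncard ≤ _ := Set.ncard_le_ncard hsub (Set.toFinite _)
    _ ≤ ((fun k : ℕ => y ^ k • z • P) '' (Finset.range p : Set ℕ)).ncard + 1 := Set.ncard_insert_le _ _
    _ ≤ (Finset.range p : Set ℕ).ncard + 1 := Nat.add_le_add_right (Set.ncard_image_le (Finset.finite_toSet _)) 1
    _ = p + 1 := by rw [Set.ncard_coe_finset, Finset.card_range]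

theorem count_le : (p - 1).factorial * (FI φ c (Kr S) (c x₀)).card.choose p ≤ (p + 1) * (p - 1) := by
  classical
  have hfin : S.Finite := Set.toFinite _
  have h1 := count_pc (p := p) (FI φ c (Kr S) (c x₀))
    ((C.cyc y hy).2.ge.trans (Finset.card_le_card (supp_le_FI C hy f hx₀)))
  refine h1.trans ?_
  let T : Sylow p H → Finset (Perm Ω) := fun Q => Finset.univ.filter fun σ =>
    ∃ z ∈ X, z ∈ Q ∧ Fx φ (Kr S) z ∧ φ z = σ
  have hT : ∀ Q ∈ hfin.toFinset, (T Q).card ≤ p - 1 := by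
    intro Q _
    rcases (T Q).eq_empty_or_nonempty with h | ⟨σ, hσ⟩
    · rw [h, Finset.card_empty]; exact Nat.zero_le _
    · obtain ⟨-, z, hz, hzQ, hzf, rfl⟩ := Finset.mem_filter.1 hσ
      have h2 : T Q ⊆ (Finset.Ico 1 p).image fun k => φ z ^ k := by
        intro σ' hσ'
        obtain ⟨-, w, hw, hwQ, hwf, rfl⟩ := Finset.mem_filter.1 hσ'
        obtain ⟨x, hx, hx'⟩ := meets C hG hS hne hp5 hz hzf hw hwf
        obtain ⟨-, k, hk⟩ := C.exists_pow Q.isPGroup' hz hw hzQ hwQ hx hx'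
        obtain ⟨j, hj, hj'⟩ := exists_lt (C.cyc z hz) (C.cyc w hw) hk
        exact Finset.mem_image.2 ⟨j, hj, hj'.symm⟩
      have h3 := (Finset.card_le_card h2).trans Finset.card_image_le
      rwa [Nat.card_Ico] at h3
  have hsub : {σ : Perm Ω | IsPC p σ ∧ σ.support ⊆ FI φ c (Kr S) (c x₀)} ⊆
      (hfin.toFinset.biUnion T : Finset (Perm Ω)) := by
    rintro σ ⟨hσ, hσs⟩
    obtain ⟨z, hz, rfl, hzf⟩ := lift_FI C hσ hσs
    obtain ⟨Q, hQ, hzQ⟩ := C.exists_mem_panel hG hS hne hz (C.mem_normalizer_of_fx hz hzf)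
    refine Finset.mem_coe.2 (Finset.mem_biUnion.2 ⟨Q, hfin.mem_toFinset.2 hQ, ?_⟩)
    exact Finset.mem_filter.2 ⟨Finset.mem_univ _, z, hz, hzQ, hzf, rfl⟩
  have h2 := Set.ncard_le_ncard hsub (Set.toFinite _)
  rw [Set.ncard_coe_finset] at h2
  refine h2.trans ((Finset.card_biUnion_le_card_mul _ _ _ hT).trans ?_)
  refine Nat.mul_le_mul_right _ ?_
  rw [← Set.ncard_eq_toFinset_card S hfin]
  exact panel_card C hG hS hne hp5 hy f hx₀

theorem eq_five : p = 5 ∧ (FI φ c (Kr S) (c x₀)).card = 5 := by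
  have h1 := count_le C hG hS hne hp5 hy f hx₀
  have h2 : p ≤ (FI φ c (Kr S) (c x₀)).card :=
    (C.cyc y hy).2.ge.trans (Finset.card_le_card (supp_le_FI C hy f hx₀))
  have hcy := (C.cyc y hy).2
  set m := (FI φ c (Kr S) (c x₀)).card with hm
  have hp5' : p = 5 := by
    by_contra hne5
    have h7 : 7 ≤ p := by
      have h6 : p ≠ 6 := by
        rintro rfl
        exact absurd hp.out (by norm_num)
      omega
    have h3 : 1 ≤ m.choose p := Nat.choose_pos h2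
    have h4 : (p - 1).factorial ≤ (p + 1) * (p - 1) := by
      calc (p - 1).factorial = (p - 1).factorial * 1 := (mul_one _).symm
        _ ≤ (p - 1).factorial * m.choose p := Nat.mul_le_mul_left _ h3
        _ ≤ _ := h1
    obtain ⟨q, rfl⟩ : ∃ q, p = q + 4 := ⟨p - 4, by omega⟩
    have h5 : (q + 4 - 1).factorial = (q + 3) * ((q + 2) * ((q + 1) * q.factorial)) := rfl
    rw [h5] at h4
    have h6 : 6 ≤ q.factorial := by
      calc 6 = Nat.factorial 3 := rfl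
        _ ≤ q.factorial := Nat.factorial_le (by omega)
    have h8 : (q + 3) * ((q + 2) * ((q + 1) * 6)) ≤ (q + 4 + 1) * (q + 3) := by
      calc (q + 3) * ((q + 2) * ((q + 1) * 6)) ≤ (q + 3) * ((q + 2) * ((q + 1) * q.factorial)) := by
            gcongr
        _ ≤ _ := h4
    have h9 : (q + 2) * ((q + 1) * 6) ≤ q + 4 + 1 := by
      rw [mul_comm (q + 4 + 1)] at h8
      exact Nat.le_of_mul_le_mul_left h8 (by omega)
    nlinarith
  refine ⟨hp5', ?_⟩
  clear_value m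
  clear hm hcy
  have h0 : (p - 1).factorial * m.choose p = (5 - 1).factorial * m.choose 5 := by rw [hp5']
  rw [h0] at h1
  by_contra hne5
  have h3 : 6 ≤ m := by omega
  have h4 : Nat.choose 6 5 ≤ m.choose 5 := Nat.choose_le_choose 5 h3
  have h5 : Nat.choose 6 5 = 6 := by decide
  have h6 : (5 - 1).factorial = 24 := by decide
  rw [h6] at h1
  have h7 : (p + 1) * (p - 1) = 24 := by rw [hp5']
  omega

omit S hS hne hp5 hy f hx₀ y x₀ in
/-- **`p ≥ 5`** -/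
theorem big (hp5 : 5 ≤ p) {F₀ : Finset Ω} (hF₀ : ∀ x ∈ F₀, ∀ z ∈ F₀, c x = c z) (hcard : p ≤ F₀.card)
    (h6 : p = 5 → 6 ≤ F₀.card) : False := by
  have hp2 : p ≠ 2 := by omega
  have hlift : ∀ {σ : Perm Ω}, IsPC p σ → σ.support ⊆ F₀ → ∃ y ∈ X, φ y = σ := fun {σ} hσ hs =>
    C.lift σ hσ fun x hx z hz => hF₀ x (hs hx) z (hs hz)
  have hsyl : ∀ {y : H}, y ∈ X → ∃ a : Sylow p H, y ∈ a := fun {y} hy => by
    obtain ⟨a, ha⟩ := (C.isPGroup_zpowers hy).exists_le_sylow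
    exact ⟨a, ha (Subgroup.mem_zpowers y)⟩
  by_cases h5 : p = 5
  · -- the supports
    have hconst := const hG (fun a => {B : Finset Ω | ∃ y ∈ X, y ∈ a ∧ (φ y).support = B}) (by
      have key : ∀ S ∈ Pa, ∀ a ∈ S, ∀ b ∈ S, ∀ B : Finset Ω,
          (∃ y ∈ X, y ∈ a ∧ (φ y).support = B) → ∃ y ∈ X, y ∈ b ∧ (φ y).support = B := by
        rintro S hS a ha b hb _ ⟨y, hy, hya, rfl⟩
        have hne : S.Nonempty := ⟨a, ha⟩
        by_cases hF : Fx φ (Kr S) y
        · obtain ⟨g, hg, rfl⟩ := exists_smul' hG hS ha hb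
          refine ⟨g * y * g⁻¹, C.conj y hy g, mem_smul_conj hya, ?_⟩
          obtain ⟨x, hx, hx'⟩ := meets C hG hS hne hp5 hy hF (C.conj y hy g) (hF.conj hg)
          obtain ⟨-, h7⟩ := eq_five C hG hS hne hp5 hy hF hx
          have h8 : (φ y).support = FI φ c (Kr S) (c x) :=
            Finset.eq_of_subset_of_card_le (supp_le_FI C hy hF hx) (by
              rw [h7, (C.cyc y hy).2, h5])
          refine IsPC.eq_of_subset (C.cyc _ (C.conj y hy g)) (C.cyc y hy) ?_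
          rw [h8]
          exact supp_le_FI C (C.conj y hy g) (hF.conj hg) hx'
        · exact ⟨y, hy, kr_le hb (C.mem_kr hG hS hne hp2 hy (le_normalizer hG hS ha hya) hF), rfl⟩
      intro S hS a ha b hb
      ext B
      exact ⟨key S hS a ha b hb B, key S hS b hb a ha B⟩)
    obtain ⟨G, hGF, hGc⟩ := Finset.exists_subset_card_eq (h6 h5)
    obtain ⟨u, hu, v, hv, w, hw, huv, huw, hvw⟩ : ∃ u ∈ G, ∃ v ∈ G, ∃ w ∈ G, u ≠ v ∧ u ≠ w ∧ v ≠ w := by
      have h1 : 2 < G.card := by omega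
      exact Finset.two_lt_card.1 h1
    have hex : ∀ t ∈ G, ∃ y ∈ X, (φ y).support = G.erase t := by
      intro t ht
      have h1 : p ≤ (G.erase t).card := by rw [Finset.card_erase_of_mem ht, hGc, h5]
      obtain ⟨σ, hσ, hs⟩ := exists_pc _ h1
      obtain ⟨y, hy, rfl⟩ := hlift hσ (hs.trans ((Finset.erase_subset _ _).trans hGF))
      refine ⟨y, hy, Finset.eq_of_subset_of_card_le hs ?_⟩
      rw [Finset.card_erase_of_mem ht, hGc, hσ.2, h5]
    obtain ⟨y, hy, hys⟩ := hex u hu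
    obtain ⟨z, hz, hzs⟩ := hex v hv
    obtain ⟨a, ha⟩ := hsyl hy
    obtain ⟨b, hb⟩ := hsyl hz
    have h1 : G.erase u ∈ {B : Finset Ω | ∃ y ∈ X, y ∈ b ∧ (φ y).support = B} := by
      rw [← hconst a b]; exact ⟨y, hy, ha, hys⟩
    obtain ⟨y', hy', hyb', hys'⟩ := h1
    obtain ⟨h2, -⟩ := C.exists_pow b.isPGroup' hy' hz hyb' hb (x := w)
      (by rw [hys']; exact Finset.mem_erase.2 ⟨huw.symm, hw⟩)
      (by rw [hzs]; exact Finset.mem_erase.2 ⟨hvw.symm, hw⟩)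
    rw [hys', hzs] at h2
    have h3 : u ∈ G.erase v := Finset.mem_erase.2 ⟨huv, hu⟩
    rw [← h2] at h3
    exact (Finset.mem_erase.1 h3).1 rfl
  · -- the elements
    have hconst := const hG (fun a => {y : H | y ∈ X ∧ y ∈ a}) (by
      have key : ∀ S ∈ Pa, ∀ a ∈ S, ∀ b ∈ S, ∀ y ∈ X, y ∈ a → y ∈ b := by
        intro S hS a ha b hb y hy hya
        have hne : S.Nonempty := ⟨a, ha⟩
        have hF : ¬ Fx φ (Kr S) y := by
          intro hF
          obtain ⟨x, hx⟩ : (φ y).support.Nonempty := by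
            rw [← Finset.card_pos, (C.cyc y hy).2]; exact hp.out.pos
          exact h5 (eq_five C hG hS hne hp5 hy hF hx).1
        exact kr_le hb (C.mem_kr hG hS hne hp2 hy (le_normalizer hG hS ha hya) hF)
      intro S hS a ha b hb
      ext y
      exact ⟨fun h => ⟨h.1, key S hS a ha b hb y h.1 h.2⟩, fun h => ⟨h.1, key S hS b hb a ha y h.1 h.2⟩⟩)
    obtain ⟨σ, hσ, hs⟩ := exists_pc F₀ hcard
    obtain ⟨τ, hτ, hτs, hk⟩ := exists_not_pow hp5 hσ
    obtain ⟨y, hy, rfl⟩ := hlift hσ hs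
    obtain ⟨z, hz, rfl⟩ := hlift hτ (by rw [hτs]; exact hs)
    obtain ⟨a, ha⟩ := hsyl hy
    obtain ⟨b, hb⟩ := hsyl hz
    have h1 : y ∈ {y : H | y ∈ X ∧ y ∈ b} := by
      rw [← hconst a b]; exact ⟨hy, ha⟩
    obtain ⟨x, hx⟩ : (φ y).support.Nonempty := by
      rw [← Finset.card_pos, (C.cyc y hy).2]; exact hp.out.pos
    obtain ⟨-, k, hk'⟩ := C.exists_pow b.isPGroup' hy hz h1.2 hb hx (by rw [hτs]; exact hx)
    exact hk k hk'

end Cfsg.Agent.H289.CycBig
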