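import Mathlib
import Cfsg.Agent.StdAlt.Closing
import Cfsg.Agent.H289.CycCore

/-!
A subgroup `L` with `L / Z(L) ≅ A_m` which commutes with its conjugates: the action of the group on the points
of the conjugates of `L`.

* `Lab L m` : a labelling of the action of the normaliser of `L`;
* `Lab.act` : the action of the group on `(G ⧸ N(L)) × Fin m`.
-/

set_option autoImplicit false

namespace Cfsg.Agent.H289.CycLab

open Equiv Equiv.Perm Subgroup

variable {G : Type*} [Group G]

/-- A labelling of the action of the normaliser of `L` on `L / Z(L)` by permutations of `m` points. -/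
structure Lab (L : Subgroup G) (m : ℕ) where
  /-- the permutation of the points -/
  ψ : G → Perm (Fin m)
  mul : ∀ x y, x ∈ normalizer (L : Set G) → y ∈ normalizer (L : Set G) → ψ (x * y) = ψ x * ψ y
  alt : ∀ x ∈ L, ψ x ∈ alternatingGroup (Fin m)
  lift : ∀ σ ∈ alternatingGroup (Fin m), ∃ x ∈ L, ψ x = σ
  ker : ∀ x ∈ L, ψ x = 1 → ∀ y ∈ L, x * y = y * x
  cent : ∀ x, (∀ y ∈ L, x * y = y * x) → ψ x = 1

theorem mem_normalizer_of_comm {L : Subgroup G} {x : G} (h : ∀ y ∈ L, x * y = y * x) :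
    x ∈ normalizer (L : Set G) := by
  have h1 : ∀ y ∈ L, x * y * x⁻¹ = y := fun y hy => by rw [h y hy, mul_inv_cancel_right]
  rw [mem_normalizer_iff]
  intro y
  constructor
  · intro hy
    rw [h1 y hy]; exact hy
  · intro hy
    have h2 := h1 _ hy
    have h3 : x * y * x⁻¹ = y := by
      have h4 : x * (x * y * x⁻¹) * x⁻¹ = x * y * x⁻¹ := h2
      exact mul_left_cancel (mul_right_cancel h4)
    rw [← h3]; exact hy

/-- a permutation commuting with all even permutations of at least four points is trivial -/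
theorem eq_one_of_comm {m : ℕ} (hm : 4 ≤ m) {s : Perm (Fin m)}
    (h : ∀ σ ∈ alternatingGroup (Fin m), s * σ = σ * s) : s = 1 := by
  ext a
  have h1 : s a = a := by
    by_contra hne
    -- a three-cycle moving `a` and fixing `s a`
    obtain ⟨b, hb⟩ : ∃ b, b ∉ ({a, s a} : Finset (Fin m)) := by
      by_contra hcon
      push Not at hcon
      have h2 : (Finset.univ : Finset (Fin m)).card ≤ ({a, s a} : Finset (Fin m)).card :=
        Finset.card_le_card fun b _ => hcon b
      rw [Finset.card_univ, Fintype.card_fin] at h2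
      have h3 := Finset.card_le_two (a := a) (b := s a)
      omega
    obtain ⟨d, hd⟩ : ∃ d, d ∉ ({a, s a, b} : Finset (Fin m)) := by
      by_contra hcon
      push Not at hcon
      have h2 : (Finset.univ : Finset (Fin m)).card ≤ ({a, s a, b} : Finset (Fin m)).card :=
        Finset.card_le_card fun b _ => hcon b
      rw [Finset.card_univ, Fintype.card_fin] at h2
      have h3 := Finset.card_le_three (a := a) (b := s a) (c := b)
      omega
    simp only [Finset.mem_insert, Finset.mem_singleton, not_or] at hb hd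
    obtain ⟨hb1, hb2⟩ := hb
    obtain ⟨hd1, hd2, hd3⟩ := hd
    have h2 : swap a b * swap a d ∈ alternatingGroup (Fin m) := by
      rw [mem_alternatingGroup, Perm.sign_mul, sign_swap (Ne.symm hb1), sign_swap (Ne.symm hd1)]
      rfl
    have h3 := congrArg (fun f : Perm (Fin m) => f a) (h _ h2)
    simp only [Perm.mul_apply] at h3
    rw [swap_apply_of_ne_of_ne hne (Ne.symm hd2), swap_apply_of_ne_of_ne hne (Ne.symm hb2)] at h3
    have h4 := s.injective h3
    rw [swap_apply_left, swap_apply_of_ne_of_ne hd1 hd3] at h4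
    exact hd1 h4
  rw [h1]; rfl

/-- **existence of a labelling** -/
theorem exists_lab {L : Subgroup G} {m : ℕ} (hm : 7 ≤ m) (f : ↥L →* Perm (Fin m))
    (hr : f.range = alternatingGroup (Fin m)) (hk : f.ker = center ↥L) : Nonempty (Lab L m) := by
  classical
  obtain ⟨A, hA⟩ := StdAlt.Closing.exists_autHom (Fin m) (by rw [Fintype.card_fin]; exact hm)
  have hmem : ∀ l : ↥L, f l ∈ alternatingGroup (Fin m) := fun l => by rw [← hr]; exact ⟨l, rfl⟩
  have hsurj : ∀ σ ∈ alternatingGroup (Fin m), ∃ l : ↥L, f l = σ := fun σ hσ => by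
    rw [← hr] at hσ; exact hσ
  -- the permutation induced by an element of the normaliser
  have hex : ∀ g ∈ normalizer (L : Set G), ∃ s : Perm (Fin m), ∀ l : ↥L, ∀ l' : ↥L,
      (l' : G) = g * l * g⁻¹ → f l' = s * f l * s⁻¹ := by
    intro g hg
    let f' : ↥L →* ↥(alternatingGroup (Fin m)) := f.codRestrict _ hmem
    have hf' : Function.Surjective f' := by
      rintro ⟨σ, hσ⟩
      obtain ⟨l, rfl⟩ := hsurj σ hσ
      exact ⟨l, rfl⟩
    have hker : f'.ker = center ↥L := by
      rw [← hk]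
      ext x
      rw [MonoidHom.mem_ker, MonoidHom.mem_ker, Subtype.ext_iff]
      rfl
    let e : (↥L ⧸ center ↥L) ≃* ↥(alternatingGroup (Fin m)) :=
      (QuotientGroup.quotientMulEquivOfEq hker.symm).trans
        (QuotientGroup.quotientKerEquivOfSurjective _ hf')
    have he : ∀ x : ↥L, e (QuotientGroup.mk' _ x) = f' x := fun x => rfl
    let α : MulAut ↥L := L.normalizerMonoidHom ⟨g, hg⟩
    let β : MulAut (↥L ⧸ center ↥L) :=
      QuotientGroup.congr _ _ α (Subgroup.characteristic_iff_map_eq.1 inferInstance α)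
    refine ⟨A ((e.symm.trans β).trans e), fun l l' h => ?_⟩
    have h1 := hA ((e.symm.trans β).trans e) (f' l)
    have h2 : ((e.symm.trans β).trans e) (f' l) = f' l' := by
      rw [← he, ← he]
      show e (β (e.symm (e _))) = _
      rw [MulEquiv.symm_apply_apply]
      have h3 : l' = α l := Subtype.ext h
      rw [h3]
      rfl
    rw [h2] at h1
    exact h1
  have huniq : ∀ g ∈ normalizer (L : Set G), ∀ s s' : Perm (Fin m),
      (∀ l : ↥L, ∀ l' : ↥L, (l' : G) = g * l * g⁻¹ → f l' = s * f l * s⁻¹) →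
      (∀ l : ↥L, ∀ l' : ↥L, (l' : G) = g * l * g⁻¹ → f l' = s' * f l * s'⁻¹) → s = s' := by
    intro g hg s s' h h'
    have h1 : s'⁻¹ * s = 1 := by
      refine eq_one_of_comm (by omega) fun σ hσ => ?_
      obtain ⟨l, rfl⟩ := hsurj σ hσ
      have hl : g * (l : G) * g⁻¹ ∈ L := (mem_normalizer_iff.1 hg l).1 l.2
      have h2 := h l ⟨_, hl⟩ rfl
      rw [h' l ⟨_, hl⟩ rfl] at h2
      have h3 := congrArg (fun t => s'⁻¹ * t * s) h2
      calc s'⁻¹ * s * f l = s'⁻¹ * (s * f l * s⁻¹) * s := by group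
        _ = s'⁻¹ * (s' * f l * s'⁻¹) * s := h3.symm
        _ = f l * (s'⁻¹ * s) := by group
    exact (inv_mul_eq_one.1 h1).symm
  choose! ψ hψ using hex
  refine ⟨⟨fun g => if g ∈ normalizer (L : Set G) then ψ g else 1, ?_, ?_, ?_, ?_, ?_⟩⟩
  · intro x y hx hy
    have hxy := mul_mem hx hy
    rw [if_pos hx, if_pos hy, if_pos hxy]
    refine huniq _ hxy _ _ (hψ _ hxy) fun l l' h => ?_
    have hl : y * (l : G) * y⁻¹ ∈ L := (mem_normalizer_iff.1 hy l).1 l.2
    rw [hψ x hx ⟨_, hl⟩ l' (by rw [h]; group), hψ y hy l ⟨_, hl⟩ rfl]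
    group
  · intro x hx
    have hxN := le_normalizer (H := L) hx
    beta_reduce
    rw [if_pos hxN, huniq x hxN _ (f ⟨x, hx⟩) (hψ x hxN) fun l l' h => ?_]
    · exact hmem _
    · have : l' = ⟨x, hx⟩ * l * ⟨x, hx⟩⁻¹ := Subtype.ext h
      rw [this, map_mul, map_mul, map_inv]
  · intro σ hσ
    obtain ⟨x, rfl⟩ := hsurj σ hσ
    have hxN := le_normalizer (H := L) x.2
    refine ⟨x, x.2, ?_⟩
    rw [if_pos hxN, huniq x hxN _ (f x) (hψ x hxN) fun l l' h => ?_]
    have : l' = x * l * x⁻¹ := Subtype.ext h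
    rw [this, map_mul, map_mul, map_inv]
  · intro x hx h y hy
    have hxN := le_normalizer (H := L) hx
    beta_reduce at h
    rw [if_pos hxN, huniq x hxN _ (f ⟨x, hx⟩) (hψ x hxN) fun l l' h => ?_] at h
    · have h1 : (⟨x, hx⟩ : ↥L) ∈ center ↥L := by rw [← hk]; exact h
      exact (congrArg Subtype.val (mem_center_iff.1 h1 ⟨y, hy⟩)).symm
    · have : l' = ⟨x, hx⟩ * l * ⟨x, hx⟩⁻¹ := Subtype.ext h
      rw [this, map_mul, map_mul, map_inv]
  · intro x h
    have hxN := mem_normalizer_of_comm h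
    beta_reduce
    rw [if_pos hxN]
    refine huniq x hxN _ 1 (hψ x hxN) fun l l' h' => ?_
    have : l' = l := Subtype.ext (by rw [h', h l l.2, mul_inv_cancel_right])
    rw [this]; group

namespace Lab

variable {L : Subgroup G} {m : ℕ} (B : Lab L m)

theorem one : B.ψ 1 = 1 := by
  have := B.mul 1 1 (one_mem _) (one_mem _)
  rw [mul_one] at this
  exact left_eq_mul.mp this

theorem inv {x : G} (hx : x ∈ normalizer (L : Set G)) : B.ψ x⁻¹ = (B.ψ x)⁻¹ := by
  have := B.mul x⁻¹ x (inv_mem hx) hx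
  rw [inv_mul_cancel, B.one] at this
  exact (inv_eq_of_mul_eq_one_left this.symm).symm

theorem pow {x : G} (hx : x ∈ normalizer (L : Set G)) (n : ℕ) : B.ψ (x ^ n) = B.ψ x ^ n := by
  induction n with
  | zero => rw [pow_zero, pow_zero, B.one]
  | succ n ih => rw [pow_succ, pow_succ, B.mul _ _ (pow_mem hx n) hx, ih]

end Lab

/-- the points of the conjugates of `L` -/
abbrev Pt (L : Subgroup G) (m : ℕ) := (G ⧸ normalizer (L : Set G)) × Fin m

/-- the representative of a coset -/
noncomputable def r {L : Subgroup G} (i : G ⧸ normalizer (L : Set G)) : G := Quotient.out i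

theorem mk_r {L : Subgroup G} (i : G ⧸ normalizer (L : Set G)) :
    (QuotientGroup.mk (r i) : G ⧸ normalizer (L : Set G)) = i := QuotientGroup.out_eq' i

theorem r_mem {L : Subgroup G} (g : G) (i : G ⧸ normalizer (L : Set G)) :
    (r (g • i))⁻¹ * g * r i ∈ normalizer (L : Set G) := by
  rw [mul_assoc, ← QuotientGroup.eq, mk_r]
  conv_lhs => rw [← mk_r i]
  rfl

theorem r_mem' {L : Subgroup G} {i j : G ⧸ normalizer (L : Set G)}
    (h : (r j)⁻¹ * r i ∈ normalizer (L : Set G)) : i = j := by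
  rw [← QuotientGroup.eq, mk_r, mk_r] at h
  exact h.symm

theorem smul_eq_iff {L : Subgroup G} {g : G} {i : G ⧸ normalizer (L : Set G)} :
    g • i = i ↔ (r i)⁻¹ * g * r i ∈ normalizer (L : Set G) := by
  constructor
  · intro h
    have := r_mem g i
    rwa [h] at this
  · intro h
    rw [mul_assoc, ← QuotientGroup.eq, mk_r] at h
    conv_lhs => rw [← mk_r i]
    exact h.symm

namespace Lab

variable {L : Subgroup G} {m : ℕ} (B : Lab L m)

/-- the action on the points -/
noncomputable abbrev act : MulAction G (Pt L m) where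
  smul g x := (g • x.1, B.ψ ((r (g • x.1))⁻¹ * g * r x.1) x.2)
  one_smul := by
    rintro ⟨i, w⟩
    change ((1 : G) • i, B.ψ ((r ((1 : G) • i))⁻¹ * 1 * r i) w) = (i, w)
    rw [one_smul, mul_one, inv_mul_cancel, B.one, Perm.one_apply]
  mul_smul := by
    rintro g h ⟨i, w⟩
    change ((g * h) • i, B.ψ ((r ((g * h) • i))⁻¹ * (g * h) * r i) w) =
      (g • h • i, B.ψ ((r (g • h • i))⁻¹ * g * r (h • i)) (B.ψ ((r (h • i))⁻¹ * h * r i) w))
    rw [mul_smul, ← Perm.mul_apply, ← B.mul _ _ (r_mem g (h • i)) (r_mem h i)]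
    congr 3
    group

/-- the action as a homomorphism -/
noncomputable def hom : G →* Perm (Pt L m) :=
  letI := B.act
  MulAction.toPermHom G (Pt L m)

theorem hom_apply (g : G) (i : G ⧸ normalizer (L : Set G)) (w : Fin m) :
    B.hom g (i, w) = (g • i, B.ψ ((r (g • i))⁻¹ * g * r i) w) := rfl

theorem hom_fst (g : G) (x : Pt L m) : (B.hom g x).1 = g • x.1 := rfl

/-- `x` lies in the conjugate `L_i` -/
def In (L : Subgroup G) (i : G ⧸ normalizer (L : Set G)) (x : G) : Prop := (r i)⁻¹ * x * r i ∈ L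

theorem In.smul {i : G ⧸ normalizer (L : Set G)} {x : G} (h : In L i x) : x • i = i :=
  smul_eq_iff.2 (le_normalizer h)

theorem In.conj {i : G ⧸ normalizer (L : Set G)} {x : G} (h : In L i x) (g : G) :
    In L (g • i) (g * x * g⁻¹) := by
  unfold In
  have h1 := (mem_normalizer_iff.1 (r_mem g i) _).1 h
  have h2 : (r (g • i))⁻¹ * g * r i * ((r i)⁻¹ * x * r i) * ((r (g • i))⁻¹ * g * r i)⁻¹ =
      (r (g • i))⁻¹ * (g * x * g⁻¹) * r (g • i) := by group
  rwa [h2] at h1

theorem In.hom_apply {i : G ⧸ normalizer (L : Set G)} {x : G} (h : In L i x) (w : Fin m) :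
    B.hom x (i, w) = (i, B.ψ ((r i)⁻¹ * x * r i) w) := by
  rw [Lab.hom_apply, h.smul]

/-- `L_i` centralises `L_j` -/
theorem In.comm (hc : ∀ g : G, g ∉ normalizer (L : Set G) → ∀ x ∈ L, ∀ y ∈ L,
      g * x * g⁻¹ * y = y * (g * x * g⁻¹)) {i j : G ⧸ normalizer (L : Set G)} (hij : i ≠ j)
    {x : G} (h : In L i x) : ∀ y ∈ L, (r j)⁻¹ * x * r j * y = y * ((r j)⁻¹ * x * r j) := by
  intro y hy
  have h1 := hc ((r j)⁻¹ * r i) (fun h => hij (r_mem' h)) _ h y hy
  have h2 : (r j)⁻¹ * r i * ((r i)⁻¹ * x * r i) * ((r j)⁻¹ * r i)⁻¹ = (r j)⁻¹ * x * r j := by group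
  rwa [h2] at h1

theorem In.hom_apply_ne (hc : ∀ g : G, g ∉ normalizer (L : Set G) → ∀ x ∈ L, ∀ y ∈ L,
      g * x * g⁻¹ * y = y * (g * x * g⁻¹)) {i j : G ⧸ normalizer (L : Set G)} (hij : i ≠ j)
    {x : G} (h : In L i x) (w : Fin m) : B.hom x (j, w) = (j, w) := by
  have h1 := h.comm hc hij
  have h2 : x • j = j := smul_eq_iff.2 (mem_normalizer_of_comm h1)
  rw [Lab.hom_apply, h2, B.cent _ h1, Perm.one_apply]

end Lab

end Cfsg.Agent.H289.CycLab
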