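import Mathlib
import Cfsg.Agent.H289.CycLab
import Cfsg.Agent.H289.CycBig

/-!
The structure `Cyc` for a finite group `H` with a normal `p'`-subgroup `N` centralised by the `p`-elements and
a subgroup `L` of `H / N` with `L / Z(L) ≅ A_m`, commuting with its conjugates.
-/

set_option autoImplicit false

namespace Cfsg.Agent.H289.CycLink

open Equiv Equiv.Perm Subgroup
open Cfsg.Agent.H289.CycPerm Cfsg.Agent.H289.CycCore Cfsg.Agent.H289.CycLab

variable {H G : Type*} [Group H] [Group G] {p : ℕ} [hp : Fact p.Prime]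

/-- the data -/
structure Data (p : ℕ) (π : H →* G) (L : Subgroup G) : Prop where
  surj : Function.Surjective π
  ker : ∀ y, π y = 1 → (∃ k : ℕ, y ^ p ^ k = 1) → y = 1
  kerc : ∀ y z, (∃ k : ℕ, y ^ p ^ k = 1) → π z = 1 → y * z = z * y
  cen : ∀ z ∈ L, (∀ y ∈ L, z * y = y * z) → (∃ k : ℕ, z ^ p ^ k = 1) → z = 1
  conj : ∀ g : G, g ∉ normalizer (L : Set G) → ∀ x ∈ L, ∀ y ∈ L,
      g * x * g⁻¹ * y = y * (g * x * g⁻¹)

/-- `p`-elements of `H` in the conjugates of `L` acting as a `p`-cycle -/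
def X (p : ℕ) (π : H →* G) {L : Subgroup G} {m : ℕ} [Fintype (Pt L m)] [DecidableEq (Pt L m)]
    (B : Lab L m) : Set H :=
  {y | (∃ k : ℕ, y ^ p ^ k = 1) ∧ IsPC p (B.hom (π y)) ∧ ∃ i, Lab.In L i (π y)}

omit hp in
/-- quotients of commuting `p`-elements -/
theorem pel_inv_mul {y z : H} (hy : ∃ k : ℕ, y ^ p ^ k = 1) (hz : ∃ k : ℕ, z ^ p ^ k = 1)
    (h : y * z = z * y) : ∃ k : ℕ, (y⁻¹ * z) ^ p ^ k = 1 := by
  obtain ⟨k, hk⟩ := hy
  obtain ⟨l, hl⟩ := hz
  have hc : Commute y⁻¹ z := (show Commute y z from h).inv_left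
  refine ⟨k + l, ?_⟩
  rw [hc.mul_pow, inv_pow, pow_add, pow_mul, hk, one_pow, inv_one, one_mul, mul_comm (p ^ k), pow_mul, hl,
    one_pow]

/-- the `p`-part of an element -/
theorem exists_ppart {y : H} [Finite H] : ∃ k : ℕ, (∃ l : ℕ, (y ^ k) ^ p ^ l = 1) ∧ k % p = 1 := by
  have h0 : orderOf y ≠ 0 := (orderOf_pos y).ne'
  obtain ⟨a, b, hb, hab⟩ := Nat.exists_eq_pow_mul_and_not_dvd h0 p hp.out.ne_one
  have hcop : Nat.Coprime b p := ((Nat.Prime.coprime_iff_not_dvd hp.out).2 hb).symm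
  obtain ⟨c, hc⟩ : ∃ c, b * c % p = 1 % p := by
    obtain ⟨c, hc⟩ := Nat.exists_mul_mod_eq_one_of_coprime hcop hp.out.one_lt
    exact ⟨c, by rw [hc.2, Nat.mod_eq_of_lt hp.out.one_lt]⟩
  refine ⟨b * c, ⟨a, ?_⟩, ?_⟩
  · rw [← pow_mul, show b * c * p ^ a = p ^ a * b * c by ring, ← hab, pow_mul, pow_orderOf_eq_one, one_pow]
  · rw [hc, Nat.mod_eq_of_lt hp.out.one_lt]

variable {π : H →* G} {L : Subgroup G} {m : ℕ} [Fintype (Pt L m)] [DecidableEq (Pt L m)]

omit hp in
theorem supp_in (D : Data p π L) (B : Lab L m) {x : G} {i : G ⧸ normalizer (L : Set G)}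
    (h : Lab.In L i x) {z : Pt L m} (hz : z ∈ (B.hom x).support) : z.1 = i := by
  by_contra hne
  obtain ⟨j, w⟩ := z
  exact mem_support.1 hz (h.hom_apply_ne B D.conj (Ne.symm hne) w)

theorem cyc [Finite H] (D : Data p π L) (hp2 : p ≠ 2) (B : Lab L m) :
    Cyc p (B.hom.comp π) (fun x : Pt L m => x.1) (X p π B) := by
  have hpar : Odd p := hp.out.odd_of_ne_two hp2
  refine ⟨?_, fun y hy => hy.1, fun y hy => hy.2.1, ?_, ?_, ?_, ?_⟩
  · intro h x y hxy
    change (B.hom (π h) x).1 = (B.hom (π h) y).1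
    rw [Lab.hom_fst, Lab.hom_fst]
    change π h • x.1 = π h • y.1
    rw [show x.1 = y.1 from hxy]
  · rintro y ⟨-, -, i, hi⟩ x hx z hz
    exact (supp_in D B hi hx).trans (supp_in D B hi hz).symm
  · rintro y ⟨⟨k, hk⟩, hc, i, hi⟩ h
    refine ⟨⟨k, ?_⟩, ?_, π h • i, ?_⟩
    · rw [conj_pow, hk, mul_one, mul_inv_cancel]
    · rw [map_mul, map_mul, map_inv, map_mul, map_mul, map_inv]
      exact hc.conj _
    · rw [map_mul, map_mul, map_inv]
      exact hi.conj _
  · -- rigidity
    rintro y ⟨hyp, hyc, i, hi⟩ z ⟨hzp, hzc, j, hj⟩ hyz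
    change B.hom (π y) = B.hom (π z) at hyz
    obtain ⟨x, hx⟩ : (B.hom (π y)).support.Nonempty := by
      rw [← Finset.card_pos, hyc.2]; exact hp.out.pos
    have hij : i = j := by
      rw [← supp_in D B hi hx]
      rw [hyz] at hx
      exact supp_in D B hj hx
    subst hij
    set a := (r i)⁻¹ * π y * r i with ha
    set b := (r i)⁻¹ * π z * r i with hb
    have haL : a ∈ L := hi
    have hbL : b ∈ L := hj
    have hab : B.ψ a = B.ψ b := by
      refine Equiv.ext fun w => ?_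
      have h1 := hi.hom_apply B w
      have h2 := hj.hom_apply B w
      rw [hyz, h2] at h1
      exact (Prod.ext_iff.1 h1).2.symm
    have hpa : ∃ k : ℕ, a ^ p ^ k = 1 := by
      obtain ⟨k, hk⟩ := hyp
      refine ⟨k, ?_⟩
      have e : a = (r i)⁻¹ * π y * (r i)⁻¹⁻¹ := by rw [ha, inv_inv]
      rw [e, conj_pow, ← map_pow, hk, map_one, mul_one, mul_inv_cancel]
    have hpb : ∃ k : ℕ, b ^ p ^ k = 1 := by
      obtain ⟨k, hk⟩ := hzp
      refine ⟨k, ?_⟩
      have e : b = (r i)⁻¹ * π z * (r i)⁻¹⁻¹ := by rw [hb, inv_inv]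
      rw [e, conj_pow, ← map_pow, hk, map_one, mul_one, mul_inv_cancel]
    have hcenL : ∀ y ∈ L, a⁻¹ * b * y = y * (a⁻¹ * b) := by
      refine B.ker _ (mul_mem (inv_mem haL) hbL) ?_
      rw [B.mul _ _ (inv_mem (le_normalizer haL)) (le_normalizer hbL), B.inv (le_normalizer haL), hab,
        inv_mul_cancel]
    have hcomm : a * b = b * a := by
      have h1 := hcenL a haL
      calc a * b = a * (a * (a⁻¹ * b)) := by group
        _ = a * (a⁻¹ * b * a) := by rw [h1]
        _ = b * a := by group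
    have h1 : a⁻¹ * b = 1 := D.cen _ (mul_mem (inv_mem haL) hbL) hcenL (pel_inv_mul hpa hpb hcomm)
    have h2 : π y = π z := by
      have h3 : a = b := inv_mul_eq_one.1 h1
      rw [ha, hb] at h3
      exact mul_left_cancel (mul_right_cancel h3)
    have h3 : π (y⁻¹ * z) = 1 := by rw [map_mul, map_inv, h2, inv_mul_cancel]
    have h4 := D.kerc y _ hyp h3
    have h5 : y * z = z * y := by
      calc y * z = y * (y * (y⁻¹ * z)) := by group
        _ = y * (y⁻¹ * z * y) := by rw [h4]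
        _ = z * y := by group
    exact inv_mul_eq_one.1 (D.ker _ h3 (pel_inv_mul hyp hzp h5))
  · -- lifting
    intro σ hσ hblk
    obtain ⟨x₀, hx₀⟩ : σ.support.Nonempty := by
      rw [← Finset.card_pos, hσ.2]; exact hp.out.pos
    set i := x₀.1 with hi
    have hin : ∀ x ∈ σ.support, x.1 = i := fun x hx => hblk x hx x₀ hx₀
    have hfix : ∀ x : Pt L m, x.1 ≠ i → σ x = x := fun x hx => by
      by_contra hne
      exact hx (hin x (mem_support.2 hne))
    have hpres : ∀ w : Fin m, (σ (i, w)).1 = i := by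
      intro w
      by_cases h : (i, w) ∈ σ.support
      · exact hin _ (apply_mem_support.2 h)
      · rw [notMem_support.1 h]
    have hpres' : ∀ w : Fin m, (σ⁻¹ (i, w)).1 = i := by
      intro w
      by_cases h : (i, w) ∈ σ⁻¹.support
      · have h1 : σ⁻¹ (i, w) ∈ σ⁻¹.support := apply_mem_support.2 h
        rw [support_inv] at h1
        exact hin _ h1
      · rw [notMem_support.1 h]
    let σ' : Perm (Fin m) :=
      { toFun := fun w => (σ (i, w)).2
        invFun := fun w => (σ⁻¹ (i, w)).2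
        left_inv := by
          intro w
          change (σ⁻¹ (i, (σ (i, w)).2)).2 = w
          have h1 : (i, (σ (i, w)).2) = σ (i, w) := Prod.ext (hpres w).symm rfl
          rw [h1, inv_app]
        right_inv := by
          intro w
          change (σ (i, (σ⁻¹ (i, w)).2)).2 = w
          have h1 : (i, (σ⁻¹ (i, w)).2) = σ⁻¹ (i, w) := Prod.ext (hpres' w).symm rfl
          rw [h1, app_inv] }
    have hσ' : ∀ w, σ (i, w) = (i, σ' w) := fun w => Prod.ext (hpres w) rfl
    have hpowσ : ∀ (n : ℕ) (w : Fin m), (σ ^ n) (i, w) = (i, (σ' ^ n) w) := by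
      intro n
      induction n with
      | zero => intro w; rfl
      | succ n ih =>
        intro w
        rw [pow_succ, Perm.mul_apply, hσ', ih, pow_succ, Perm.mul_apply]
    have hp1 : σ' ^ p = 1 := by
      refine Equiv.ext fun w => ?_
      have h1 := hpowσ p w
      rw [hσ.pow_eq_one, Perm.one_apply] at h1
      exact (Prod.ext_iff.1 h1).2.symm
    have halt : σ' ∈ alternatingGroup (Fin m) := by
      rw [mem_alternatingGroup]
      have h1 : sign σ' ^ p = 1 := by rw [← map_pow, hp1, map_one]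
      rcases Int.units_eq_one_or (sign σ') with h | h
      · exact h
      · rw [h, hpar.neg_one_pow] at h1
        exact absurd h1 (by decide)
    obtain ⟨l, hl, hlσ⟩ := B.lift σ' halt
    obtain ⟨y, hy⟩ := D.surj (r i * l * (r i)⁻¹)
    have hyI : Lab.In L i (π y) := by
      unfold Lab.In
      rw [hy]
      have : (r i)⁻¹ * (r i * l * (r i)⁻¹) * r i = l := by group
      rw [this]; exact hl
    have hyl : (r i)⁻¹ * π y * r i = l := by rw [hy]; group
    have hφ : B.hom (π y) = σ := by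
      refine Equiv.ext fun x => ?_
      obtain ⟨j, w⟩ := x
      by_cases hj : j = i
      · subst hj
        rw [hyI.hom_apply, hyl, hlσ, hσ' w]
      · rw [hyI.hom_apply_ne B D.conj (Ne.symm hj), hfix _ hj]
    obtain ⟨k, hk, hk1⟩ := exists_ppart (p := p) (y := y)
    have hφk : B.hom (π (y ^ k)) = σ := by
      rw [map_pow, map_pow, hφ, ← Nat.mod_add_div k p, hk1, pow_add, pow_one, pow_mul, hσ.pow_eq_one, one_pow,
        mul_one]
    refine ⟨y ^ k, ⟨hk, ?_, i, ?_⟩, hφk⟩
    · rw [hφk]; exact hσ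
    · unfold Lab.In
      rw [map_pow]
      have h1 : (r i)⁻¹ * π y ^ k * r i = ((r i)⁻¹ * π y * r i) ^ k := by
        have := conj_pow (a := (r i)⁻¹) (b := π y) (i := k)
        rw [inv_inv] at this
        exact this.symm
      rw [h1]
      exact pow_mem hyI k

end Cfsg.Agent.H289.CycLink
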