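import Mathlib
import Cfsg.Agent.H289.CycLink

/-!
The case `p > m`: the normaliser of a Sylow `p`-subgroup is not solvable, since it contains a diagonal subgroup
of the product of the conjugates of `L`.
-/

set_option autoImplicit false

namespace Cfsg.Agent.H289.CycDiag

open Equiv Equiv.Perm Subgroup
open Cfsg.Agent.H289.CycPerm Cfsg.Agent.H289.CycCore Cfsg.Agent.H289.CycLab Cfsg.Agent.H289.CycLink

variable {H G : Type*} [Group H] [Group G] {p : ℕ} [hp : Fact p.Prime]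
variable {π : H →* G} {L : Subgroup G} {m : ℕ}

/-- a `p`-element normalising `L` centralises `L`, `p > m` -/
theorem comm_of_pel (B : Lab L m) (hm : m < p) [hL : Group.IsPerfect ↥L] {g : G}
    (hg : g ∈ normalizer (L : Set G)) (hgp : ∃ k : ℕ, g ^ p ^ k = 1) : ∀ l ∈ L, g * l = l * g := by
  have h1 : B.ψ g = 1 := by
    obtain ⟨k, hk⟩ := hgp
    have h2 : B.ψ g ^ p ^ k = 1 := by rw [← B.pow hg, hk, B.one]
    have h3 : orderOf (B.ψ g) ∣ p ^ k := orderOf_dvd_of_pow_eq_one h2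
    have h4 : orderOf (B.ψ g) ∣ Nat.card (Perm (Fin m)) := orderOf_dvd_natCard _
    rw [Nat.card_perm, Nat.card_fin] at h4
    have h5 : Nat.Coprime (p ^ k) m.factorial := by
      refine Nat.Coprime.pow_left _ ((Nat.Prime.coprime_iff_not_dvd hp.out).2 fun h => ?_)
      rw [hp.out.dvd_factorial] at h
      omega
    have h6 := Nat.dvd_gcd h3 h4
    rw [h5] at h6
    exact orderOf_eq_one_iff.1 (Nat.dvd_one.1 h6)
  have hcen : ∀ l : ↥L, g * l * g⁻¹ * (l : G)⁻¹ ∈ L := fun l =>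
    mul_mem ((mem_normalizer_iff.1 hg l).1 l.2) (inv_mem l.2)
  have hcen' : ∀ l : ↥L, (⟨_, hcen l⟩ : ↥L) ∈ center ↥L := by
    intro l
    rw [mem_center_iff]
    intro y
    have hl := le_normalizer (H := L) l.2
    have hl' := (mem_normalizer_iff.1 hg l).1 l.2
    have h2 := B.ker _ (hcen l) (by
      rw [B.mul _ _ (le_normalizer hl') (inv_mem hl), B.mul _ _ (mul_mem hg hl) (inv_mem hg),
        B.mul _ _ hg hl, B.inv hg, B.inv hl, h1]
      group) y y.2
    exact Subtype.ext h2.symm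
  let c : ↥L →* ↥(center ↥L) :=
    { toFun := fun l => ⟨_, hcen' l⟩
      map_one' := by
        apply Subtype.ext
        apply Subtype.ext
        change g * 1 * g⁻¹ * (1 : G)⁻¹ = 1
        group
      map_mul' := by
        intro l l'
        apply Subtype.ext
        apply Subtype.ext
        change g * ((l : G) * l') * g⁻¹ * ((l : G) * l')⁻¹ =
          (g * l * g⁻¹ * (l : G)⁻¹) * (g * l' * g⁻¹ * (l' : G)⁻¹)
        have h2 := congrArg Subtype.val (mem_center_iff.1 (hcen' l') l⁻¹)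
        change (l : G)⁻¹ * (g * l' * g⁻¹ * (l' : G)⁻¹) = (g * l' * g⁻¹ * (l' : G)⁻¹) * (l : G)⁻¹ at h2
        calc g * ((l : G) * l') * g⁻¹ * ((l : G) * l')⁻¹ =
            (g * l * g⁻¹) * ((g * l' * g⁻¹ * (l' : G)⁻¹) * (l : G)⁻¹) := by group
          _ = (g * l * g⁻¹) * ((l : G)⁻¹ * (g * l' * g⁻¹ * (l' : G)⁻¹)) := by rw [h2]
          _ = _ := by group }
  intro l hl
  have h2 : (⟨l, hl⟩ : ↥L) ∈ c.ker := by
    have h3 : commutator ↥L ≤ c.ker := by
      rw [commutator_def, Subgroup.commutator_le]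
      intro a _ b _
      rw [MonoidHom.mem_ker, map_commutatorElement, commutatorElement_eq_one_iff_mul_comm]
      exact Subtype.ext (mem_center_iff.1 (c b).2 (c a : ↥L))
    rw [Group.IsPerfect.commutator_eq_top] at h3
    exact h3 (mem_top _)
  have h4 : g * l * g⁻¹ * l⁻¹ = 1 := congrArg (fun x : ↥(center ↥L) => ((x : ↥L) : G)) (MonoidHom.mem_ker.1 h2)
  calc g * l = (g * l * g⁻¹ * l⁻¹) * (l * g) := by group
    _ = l * g := by rw [h4, one_mul]

/-- **the diagonal subgroup** -/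
theorem exists_diag [Finite G] (hconj : ∀ g : G, g ∉ normalizer (L : Set G) → ∀ x ∈ L, ∀ y ∈ L,
      g * x * g⁻¹ * y = y * (g * x * g⁻¹)) (Q : Subgroup G)
    (hQ : ∀ g ∈ Q, g ∈ normalizer (L : Set G) → ∀ l ∈ L, g * l = l * g) :
    ∃ δ : ↥L →* G, (∀ l, ∀ u ∈ Q, u * δ l * u⁻¹ = δ l) ∧ ∀ l, δ l = 1 → ∀ y ∈ L, y * (l : G) = l * y := by
  classical
  set Q₀ : Subgroup ↥Q := (normalizer (L : Set G)).subgroupOf Q with hQ₀
  have hfin : Finite (↥Q ⧸ Q₀) := Quotient.finite _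
  have : Fintype (↥Q ⧸ Q₀) := Fintype.ofFinite _
  let ρ : ↥Q ⧸ Q₀ → ↥Q := fun i => Quotient.out i
  have hρ : ∀ i : ↥Q ⧸ Q₀, (QuotientGroup.mk (ρ i) : ↥Q ⧸ Q₀) = i := fun i => QuotientGroup.out_eq' i
  let ϕ : ∀ _ : ↥Q ⧸ Q₀, ↥L →* G := fun i => (MulAut.conj (ρ i : G)).toMonoidHom.comp L.subtype
  have hϕ : ∀ i l, ϕ i l = (ρ i : G) * l * (ρ i : G)⁻¹ := fun i l => rfl
  have hne : ∀ i j, i ≠ j → (ρ j : G)⁻¹ * ρ i ∉ normalizer (L : Set G) := by
    intro i j hij h
    apply hij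
    rw [← hρ i, ← hρ j]
    refine (QuotientGroup.eq.2 ?_).symm
    rw [hQ₀, mem_subgroupOf]
    exact h
  have hcomm : Pairwise fun i j => ∀ x y, Commute (ϕ i x) (ϕ j y) := by
    intro i j hij x y
    have h1 := hconj _ (hne i j hij) x x.2 y y.2
    rw [hϕ, hϕ]
    change (ρ i : G) * x * (ρ i : G)⁻¹ * ((ρ j : G) * y * (ρ j : G)⁻¹) =
      (ρ j : G) * y * (ρ j : G)⁻¹ * ((ρ i : G) * x * (ρ i : G)⁻¹)
    calc (ρ i : G) * x * (ρ i : G)⁻¹ * ((ρ j : G) * y * (ρ j : G)⁻¹) =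
        (ρ j : G) * ((ρ j : G)⁻¹ * ρ i * x * ((ρ j : G)⁻¹ * ρ i)⁻¹ * y) * (ρ j : G)⁻¹ := by group
      _ = (ρ j : G) * (y * ((ρ j : G)⁻¹ * ρ i * x * ((ρ j : G)⁻¹ * ρ i)⁻¹)) * (ρ j : G)⁻¹ := by rw [h1]
      _ = _ := by group
  let Φ : (∀ _ : ↥Q ⧸ Q₀, ↥L) →* G := MonoidHom.noncommPiCoprod ϕ hcomm
  let δ : ↥L →* G := Φ.comp (MonoidHom.pi fun _ => MonoidHom.id ↥L)
  have hδ : ∀ l, δ l = Φ fun _ => l := fun l => rfl
  refine ⟨δ, ?_, ?_⟩
  · intro l u hu
    let U : ↥Q := ⟨u, hu⟩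
    let E : (∀ _ : ↥Q ⧸ Q₀, ↥L) →* (∀ _ : ↥Q ⧸ Q₀, ↥L) :=
      { toFun := fun f j => f (U⁻¹ • j)
        map_one' := rfl
        map_mul' := fun _ _ => rfl }
    have key : (MulAut.conj u).toMonoidHom.comp Φ = Φ.comp E := by
      refine MonoidHom.pi_ext fun i x => ?_
      have hE : E (Pi.mulSingle i x) = Pi.mulSingle (U • i) x := by
        funext j
        change (Pi.mulSingle i x : ∀ _ : ↥Q ⧸ Q₀, ↥L) (U⁻¹ • j) = _
        by_cases hj : j = U • i
        · rw [hj, inv_smul_smul, Pi.mulSingle_eq_same, Pi.mulSingle_eq_same]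
        · rw [Pi.mulSingle_eq_of_ne hj, Pi.mulSingle_eq_of_ne]
          intro h
          apply hj
          rw [← h, smul_inv_smul]
      rw [MonoidHom.comp_apply, MonoidHom.comp_apply, hE]
      change MulAut.conj u (MonoidHom.noncommPiCoprod ϕ hcomm (Pi.mulSingle i x)) =
        MonoidHom.noncommPiCoprod ϕ hcomm (Pi.mulSingle (U • i) x)
      rw [MonoidHom.noncommPiCoprod_mulSingle, MonoidHom.noncommPiCoprod_mulSingle, hϕ, hϕ,
        MulAut.conj_apply]
      -- the representative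
      have h1 : (ρ (U • i))⁻¹ * U * ρ i ∈ Q₀ := by
        rw [mul_assoc, ← QuotientGroup.eq, hρ]
        conv_lhs => rw [← hρ i]
        rfl
      have h2 : ((ρ (U • i) : G))⁻¹ * u * ρ i ∈ normalizer (L : Set G) := h1
      have h3 := hQ _ ((ρ (U • i))⁻¹ * U * ρ i).2 h2 x x.2
      change ((ρ (U • i) : G))⁻¹ * u * ρ i * x = x * (((ρ (U • i) : G))⁻¹ * u * ρ i) at h3
      calc u * ((ρ i : G) * x * (ρ i : G)⁻¹) * u⁻¹ =
          (ρ (U • i) : G) * (((ρ (U • i) : G))⁻¹ * u * ρ i * x) * ((ρ i : G)⁻¹ * u⁻¹) := by group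
        _ = (ρ (U • i) : G) * (x * (((ρ (U • i) : G))⁻¹ * u * ρ i)) * ((ρ i : G)⁻¹ * u⁻¹) := by rw [h3]
        _ = _ := by group
    have h1 := congrArg (fun F : (∀ _ : ↥Q ⧸ Q₀, ↥L) →* G => F fun _ => l) key
    exact h1
  · intro l hl y hy
    set j₀ : ↥Q ⧸ Q₀ := QuotientGroup.mk 1 with hj₀
    have h0 : (ρ j₀ : G) ∈ normalizer (L : Set G) := by
      have h1 : (QuotientGroup.mk (1 : ↥Q) : ↥Q ⧸ Q₀) = QuotientGroup.mk (ρ j₀) := (hρ j₀).symm
      rw [QuotientGroup.eq, inv_one, one_mul] at h1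
      exact h1
    have h1 : (fun _ => l : ∀ _ : ↥Q ⧸ Q₀, ↥L) =
        Pi.mulSingle j₀ l * Function.update (fun _ => l) j₀ 1 := by
      funext j
      by_cases hj : j = j₀
      · rw [hj, Pi.mul_apply, Pi.mulSingle_eq_same, Function.update_self, mul_one]
      · rw [Pi.mul_apply, Pi.mulSingle_eq_of_ne hj, Function.update_of_ne hj, one_mul]
    have h2 : Φ (Pi.mulSingle j₀ l) = l := by
      change MonoidHom.noncommPiCoprod ϕ hcomm (Pi.mulSingle j₀ l) = l
      rw [MonoidHom.noncommPiCoprod_mulSingle, hϕ, hQ _ (ρ j₀).2 h0 l l.2, mul_inv_cancel_right]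
    have h3 : Commute y (Φ (Function.update (fun _ => l) j₀ 1)) := by
      change Commute y (MonoidHom.noncommPiCoprod ϕ hcomm _)
      rw [MonoidHom.noncommPiCoprod_apply]
      refine Finset.noncommProd_commute _ _ _ _ fun j _ => ?_
      by_cases hj : j = j₀
      · rw [hj, Function.update_self, map_one]
        exact Commute.one_right y
      · rw [Function.update_of_ne hj, hϕ]
        have hj' : (ρ j : G) ∉ normalizer (L : Set G) := by
          intro h
          apply hne j j₀ hj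
          exact mul_mem (inv_mem h0) h
        exact (hconj _ hj' l l.2 y hy).symm
    rw [hδ, h1, map_mul, h2] at hl
    have h4 : Φ (Function.update (fun _ => l) j₀ 1) = (l : G)⁻¹ := (inv_eq_of_mul_eq_one_right hl).symm
    rw [h4] at h3
    have h5 := h3.inv_right
    rw [inv_inv] at h5
    exact h5

/-- **`p > m`** -/
theorem false_of_lt [Finite H] [Finite G] (D : Data p π L) (B : Lab L m) (hm : m < p)
    [hL : Group.IsPerfect ↥L] (hnt : ∃ x ∈ L, ∃ y ∈ L, x * y ≠ y * x) (P : Sylow p H)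
    (hsol : Group.IsSolvable ↥(normalizer ((P : Subgroup H) : Set H))) : False := by
  obtain ⟨δ, h1, h2⟩ := exists_diag D.conj ((P : Subgroup H).map π) (by
    rintro _ ⟨u, hu, rfl⟩ hn
    refine comm_of_pel B hm hn ?_
    obtain ⟨k, hk⟩ := P.isPGroup' ⟨u, hu⟩
    exact ⟨k, by rw [← map_pow, show u ^ p ^ k = 1 from congrArg Subtype.val hk, map_one]⟩)
  have hpel : ∀ u ∈ P, ∃ k : ℕ, u ^ p ^ k = 1 := fun u hu => by
    obtain ⟨k, hk⟩ := P.isPGroup' ⟨u, hu⟩
    exact ⟨k, congrArg Subtype.val hk⟩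
  -- the range of the diagonal map lies in the image of the normaliser
  have h3 : δ.range ≤ (normalizer ((P : Subgroup H) : Set H)).map π := by
    rintro _ ⟨l, rfl⟩
    obtain ⟨h, hh⟩ := D.surj (δ l)
    refine ⟨h, ?_, hh⟩
    have key : ∀ (l : ↥L) (h : H), π h = δ l → ∀ x ∈ P, h * x * h⁻¹ ∈ P := by
      intro l h hh x hx
      have h4 : π (h * x * h⁻¹) = π x := by
        have h5 := h1 l (π x) ⟨x, hx, rfl⟩
        rw [map_mul, map_mul, map_inv, hh]
        have h6 : π x * δ l = δ l * π x := by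
          rw [mul_inv_eq_iff_eq_mul] at h5
          exact h5
        rw [← h6, mul_inv_cancel_right]
      have h5 : π (x⁻¹ * (h * x * h⁻¹)) = 1 := by rw [map_mul, h4, map_inv, inv_mul_cancel]
      have h6 := D.kerc x _ (hpel x hx) h5
      have h7 : x * (h * x * h⁻¹) = h * x * h⁻¹ * x := by
        calc x * (h * x * h⁻¹) = x * (x * (x⁻¹ * (h * x * h⁻¹))) := by group
          _ = x * (x⁻¹ * (h * x * h⁻¹) * x) := by rw [h6]
          _ = _ := by group
      have h8 : ∃ k : ℕ, (h * x * h⁻¹) ^ p ^ k = 1 := by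
        obtain ⟨k, hk⟩ := hpel x hx
        exact ⟨k, by rw [conj_pow, hk, mul_one, mul_inv_cancel]⟩
      have h9 := D.ker _ h5 (pel_inv_mul (hpel x hx) h8 h7)
      rw [← inv_mul_eq_one.1 h9]
      exact hx
    change h ∈ normalizer ((P : Subgroup H) : Set H)
    rw [mem_normalizer_iff]
    intro x
    constructor
    · exact key l h hh x
    · intro hx
      have h4 := key l⁻¹ h⁻¹ (by rw [map_inv, hh, map_inv]) _ hx
      have h5 : h⁻¹ * (h * x * h⁻¹) * h⁻¹⁻¹ = x := by group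
      rwa [h5] at h4
  have h4 : Group.IsSolvable ↥δ.range := by
    have h5 : Group.IsSolvable ↥((normalizer ((P : Subgroup H) : Set H)).map π) :=
      Group.isSolvable_of_surjective (f := π.subgroupMap (normalizer ((P : Subgroup H) : Set H)))
        (π.subgroupMap_surjective _)
    exact Group.isSolvable_of_isSolvable_injective (Subgroup.inclusion_injective h3)
  have h5 : Group.IsPerfect ↥δ.range := Group.IsPerfect.range δ
  have h6 : Subsingleton ↥δ.range := by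
    by_contra hns
    have : Nontrivial ↥δ.range := not_subsingleton_iff_nontrivial.1 hns
    exact Group.IsPerfect.not_isSolvable ↥δ.range h4
  obtain ⟨x, hx, y, hy, hxy⟩ := hnt
  have h7 : δ ⟨x, hx⟩ = 1 := by
    have h8 : (⟨δ ⟨x, hx⟩, ⟨_, rfl⟩⟩ : ↥δ.range) = 1 := Subsingleton.elim _ _
    exact congrArg Subtype.val h8
  exact hxy (h2 ⟨x, hx⟩ h7 y hy).symm

end Cfsg.Agent.H289.CycDiag
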