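import Mathlib
import Cfsg.Prelude.Def_Local
import Cfsg.Agent.H289.CycDiag
import Cfsg.Agent.SignalizersComponents.PCompQuot
import Cfsg.Agent.S1270
import Cfsg.Agent.Lib.Cores

/-!
THEOREM NoAlt, abstract form: a finite group `C` whose Sylow `p`-subgroups (`p ≥ 5`) form a chamber system with
gates, with solvable Sylow normalisers, and whose normal subgroups of odd order are `p'`-groups centralised by
the `p`-elements, has no `2`-component `J` with `(J / O(J)) / Z ≅ A_m`, `m ≥ 9`, `p` not dividing the order of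
the centre `Z` of `J / O(J)`.
-/

set_option autoImplicit false

namespace Cfsg.Agent.H289.NoAlt

open Cfsg Equiv Equiv.Perm Subgroup
open Cfsg.Agent.FixBN.Gates
open Cfsg.Agent.H289.CycPerm Cfsg.Agent.H289.CycCore Cfsg.Agent.H289.CycLab Cfsg.Agent.H289.CycLink

/-- the properties of the centraliser of an involutory automorphism of a group of Lie type of odd characteristic
`p` -/
structure Gated (p : ℕ) (C : Type*) [Group C] : Prop where
  gsys : ∃ (Pa : Set (Set (Sylow p C))) (d : Sylow p C → Sylow p C → ℕ), GSys Pa d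
  solv : ∃ P : Sylow p C, Group.IsSolvable ↥(normalizer ((P : Subgroup C) : Set C))
  fix : ∀ N : Subgroup C, N.Normal → Odd (Nat.card N) →
    ¬ p ∣ Nat.card N ∧ ∀ v : C, (∃ n : ℕ, v ^ p ^ n = 1) → ∀ x ∈ N, v * x = x * v

section le

variable {H G : Type*} [Group H] [Group G] {p : ℕ} [hp : Fact p.Prime]
variable {π : H →* G} {L : Subgroup G} {m : ℕ}

/-- **`5 ≤ p ≤ m`** -/
theorem false_of_le [Finite H] [Finite G] (hp5 : 5 ≤ p) (hpm : p ≤ m) (h6 : 6 ≤ m)
    {Pa : Set (Set (Sylow p H))} {d : Sylow p H → Sylow p H → ℕ} (hG : GSys Pa d) (D : Data p π L)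
    (B : Lab L m) : False := by
  classical
  have hfin : Finite (G ⧸ normalizer (L : Set G)) := Quotient.finite _
  have : Fintype (Pt L m) := Fintype.ofFinite _
  have hC := cyc D (by omega) B
  let i₀ : G ⧸ normalizer (L : Set G) := QuotientGroup.mk 1
  let F₀ : Finset (Pt L m) := Finset.univ.image fun w : Fin m => (i₀, w)
  have hF : F₀.card = m := by
    rw [Finset.card_image_of_injective _ fun a b h => (Prod.ext_iff.1 h).2, Finset.card_univ,
      Fintype.card_fin]
  refine CycBig.big (C := hC) (hG := hG) hp5 (F₀ := F₀) ?_ (by omega) (fun _ => by omega)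
  intro x hx z hz
  obtain ⟨a, -, rfl⟩ := Finset.mem_image.1 hx
  obtain ⟨b, -, rfl⟩ := Finset.mem_image.1 hz
  rfl

end le

/-- conjugates of a component commute with it -/
theorem conj_comm {G : Type*} [Group G] [Finite G] {L : Subgroup G} (hL : IsComponent L) :
    ∀ g : G, g ∉ normalizer (L : Set G) → ∀ x ∈ L, ∀ y ∈ L, g * x * g⁻¹ * y = y * (g * x * g⁻¹) := by
  intro g hg x hx y hy
  have h1 := S1270.commute_conj hL (g := g) (h := 1) (by rwa [inv_one, one_mul]) hx hy
  rw [one_mul, inv_one, mul_one] at h1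
  exact h1

theorem odd_pPrimeCore (C : Type*) [Group C] [Finite C] : Odd (Nat.card ↥(pPrimeCore 2 C)) :=
  Nat.coprime_two_right.1 (Lib.Cores.pPrimeCore_coprime 2)

/-- the data for a `2`-component -/
theorem data {p : ℕ} [hp : Fact p.Prime] {C : Type*} [Group C] [Finite C] (h : Gated p C)
    {J : Subgroup C} (hJ : IsPComponent 2 J) (hZ : ¬ p ∣ Nat.card (center (↥J ⧸ oddCore ↥J))) :
    Data p (QuotientGroup.mk' (pPrimeCore 2 C)) (J.map (QuotientGroup.mk' (pPrimeCore 2 C))) := by
  obtain ⟨h1, h2⟩ := h.fix (pPrimeCore 2 C) inferInstance (odd_pPrimeCore C)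
  have hmem : ∀ y : C, QuotientGroup.mk' (pPrimeCore 2 C) y = 1 → y ∈ pPrimeCore 2 C := fun y hy =>
    (QuotientGroup.eq_one_iff y).1 hy
  obtain ⟨e, -⟩ := SignalizersComponents.PCompQuot.exists_quotient_equiv 2 hJ.1
  refine ⟨QuotientGroup.mk'_surjective _, ?_, fun y z hy hz => h2 y hy z (hmem z hz), ?_,
    conj_comm hJ.2.1⟩
  · intro y hy ⟨k, hk⟩
    have h3 : orderOf y ∣ p ^ k := orderOf_dvd_of_pow_eq_one hk
    have h4 : orderOf y ∣ Nat.card ↥(pPrimeCore 2 C) := Subgroup.orderOf_dvd_natCard _ (hmem y hy)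
    have h5 : Nat.Coprime (p ^ k) (Nat.card ↥(pPrimeCore 2 C)) :=
      Nat.Coprime.pow_left _ ((Nat.Prime.coprime_iff_not_dvd hp.out).2 h1)
    have h6 := Nat.dvd_gcd h3 h4
    rw [h5] at h6
    exact orderOf_eq_one_iff.1 (Nat.dvd_one.1 h6)
  · intro z hz hc ⟨k, hk⟩
    set L := J.map (QuotientGroup.mk' (pPrimeCore 2 C)) with hL
    have h3 : (⟨z, hz⟩ : ↥L) ∈ center ↥L := by
      rw [mem_center_iff]
      intro y
      exact Subtype.ext (hc y y.2).symm
    have h4 : Nat.card (center ↥L) = Nat.card (center (↥J ⧸ oddCore ↥J)) :=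
      (Nat.card_congr (Subgroup.centerCongr e).toEquiv).symm
    have h5 : orderOf z ∣ p ^ k := orderOf_dvd_of_pow_eq_one hk
    have h6 : orderOf z ∣ Nat.card (center ↥L) := by
      have := Subgroup.orderOf_dvd_natCard _ h3
      rwa [← Subgroup.orderOf_coe] at this
    have h7 : Nat.Coprime (p ^ k) (Nat.card (center ↥L)) := by
      rw [h4]
      exact Nat.Coprime.pow_left _ ((Nat.Prime.coprime_iff_not_dvd hp.out).2 hZ)
    have h8 := Nat.dvd_gcd h5 h6
    rw [h7] at h8
    exact orderOf_eq_one_iff.1 (Nat.dvd_one.1 h8)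

/-- **THEOREM NoAlt**, abstract form. -/
theorem Gated.false {p : ℕ} [hp : Fact p.Prime] (hp5 : 5 ≤ p) {C : Type*} [Group C] [Finite C] (h : Gated p C)
    {m : ℕ} (hm : 7 ≤ m) {J : Subgroup C} (hJ : IsPComponent 2 J)
    (hZ : ¬ p ∣ Nat.card (center (↥J ⧸ oddCore ↥J)))
    (e : Nonempty (((↥J ⧸ oddCore ↥J) ⧸ center (↥J ⧸ oddCore ↥J)) ≃* alternatingGroup (Fin m))) : False := by
  obtain ⟨e⟩ := e
  have D := data h hJ hZ
  obtain ⟨e', -⟩ := SignalizersComponents.PCompQuot.exists_quotient_equiv 2 hJ.1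
  set L := J.map (QuotientGroup.mk' (pPrimeCore 2 C)) with hL
  -- the labelling
  let f : ↥L →* Perm (Fin m) := (alternatingGroup (Fin m)).subtype.comp
    (e.toMonoidHom.comp ((QuotientGroup.mk' _).comp e'.symm.toMonoidHom))
  have hr : f.range = alternatingGroup (Fin m) := by
    apply le_antisymm
    · rintro _ ⟨x, rfl⟩
      exact (e _).2
    · intro σ hσ
      obtain ⟨y, hy⟩ := e.surjective ⟨σ, hσ⟩
      obtain ⟨z, rfl⟩ := QuotientGroup.mk'_surjective _ y
      refine ⟨e' z, ?_⟩
      change ((e (QuotientGroup.mk' _ (e'.symm (e' z))) : alternatingGroup (Fin m)) : Perm (Fin m)) = σ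
      rw [MulEquiv.symm_apply_apply, hy]
  have hk : f.ker = center ↥L := by
    ext x
    rw [MonoidHom.mem_ker]
    have h1 : f x = 1 ↔ e'.symm x ∈ center (↥J ⧸ oddCore ↥J) := by
      change ((e (QuotientGroup.mk' _ (e'.symm x)) : alternatingGroup (Fin m)) : Perm (Fin m)) = 1 ↔ _
      rw [OneMemClass.coe_eq_one, map_eq_one_iff e e.injective]
      exact QuotientGroup.eq_one_iff _
    rw [h1, mem_center_iff, mem_center_iff]
    constructor
    · intro h2 y
      have h3 := h2 (e'.symm y)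
      rw [← map_mul, ← map_mul] at h3
      exact e'.symm.injective h3
    · intro h2 y
      have h3 := h2 (e' y)
      apply e'.injective
      rw [map_mul, map_mul, MulEquiv.apply_symm_apply]
      exact h3
  obtain ⟨B⟩ := exists_lab hm f hr hk
  obtain ⟨Pa, d, hG⟩ := h.gsys
  rcases Nat.lt_or_ge m p with hlt | hge
  · obtain ⟨P, hP⟩ := h.solv
    have hperf : Group.IsPerfect ↥L := hJ.2.1.2.1
    refine CycDiag.false_of_lt D B hlt ?_ P hP
    -- `L` is not commutative
    by_contra hcon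
    push Not at hcon
    have h1 : ∀ x ∈ L, B.ψ x = 1 := fun x hx => B.cent x fun y hy => hcon x hx y hy
    have h2 : ∀ σ ∈ alternatingGroup (Fin m), σ = 1 := by
      intro σ hσ
      obtain ⟨x, hx, rfl⟩ := B.lift σ hσ
      exact h1 x hx
    have h3 : swap (⟨0, by omega⟩ : Fin m) ⟨1, by omega⟩ * swap ⟨0, by omega⟩ ⟨2, by omega⟩ ∈
        alternatingGroup (Fin m) := by
      rw [mem_alternatingGroup, Perm.sign_mul, sign_swap (by simp), sign_swap (by simp)]
      rfl
    have h4 := congrArg (fun f : Perm (Fin m) => f ⟨0, by omega⟩) (h2 _ h3)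
    simp only [Perm.mul_apply, Perm.one_apply] at h4
    rw [swap_apply_left, swap_apply_of_ne_of_ne (by simp) (by simp)] at h4
    simp at h4
  · exact false_of_le hp5 hge (by omega) hG D B

end Cfsg.Agent.H289.NoAlt
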