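import Mathlib
import Cfsg.Agent.FixBN.LOAll
import Cfsg.Agent.FixBN.FixSplit
import Cfsg.Agent.SignalizersComponents.PLayerAut
import Cfsg.Agent.H289.NoAltAbs

/-!
THEOREM NoAlt: `K` simple of Lie type in odd characteristic `p`, `τ` an automorphism of `K` with `τ² = 1`.

* `gated` : the centraliser of `τ` is `Gated`, if `K` has a good split (B,N)-pair of characteristic `p`;
* `noAlt` : if `p ≥ 5` then the centraliser of `τ` has no `2`-component `J` such that `J / O(J)` is `A_m` modulo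
  its centre, of order prime to `p`.
-/

set_option autoImplicit false

namespace Cfsg.Agent.H289.NoAlt

open Cfsg Subgroup
open Cfsg.Agent.FixBN Cfsg.Agent.FixBN.Gates
open Cfsg.Agent.Tits.Core Cfsg.Agent.Tits.Core.Bldg Cfsg.Agent.Tits.OfBN Cfsg.Agent.Schreier.BNSch
open Cfsg.Agent.Lib

theorem gated_of_allGood {K : Type*} [Group K] [Finite K] {p : ℕ} [hp : Fact p.Prime] (hp2 : p ≠ 2)
    {P : Cfsg.BNPair K} {U : Subgroup K} (h : Split P p U) (hB : Group.IsSolvable P.B)
    (hR : AllGood h) (τ : K ≃* K) (hτ : ∀ g, τ (τ g) = g) (C : Subgroup K) (hC : C = Reduce.fixSub τ) :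
    Gated p ↥C := by
  have hN : ((P.B ⊓ P.N).subgroupOf P.N).Normal := normal_subgroupOf P
  obtain ⟨M, cs, hcs⟩ := S0320.result P
  obtain ⟨t, ht⟩ := TwOfBN.exists_tw h (Equiv.refl P.S) cs hcs τ hτ
  have hI : Finite P.S := OfBN.finite_I (Equiv.refl P.S)
  have hth := thick P (Equiv.refl P.S) cs hcs
  have hcent : t.cent = C := by
    rw [hC]
    ext g
    rw [t.mem_cent, ht]
    exact Iff.rfl
  obtain ⟨J, x, hgd⟩ := exists_good t (QuotientGroup.mk 1)
  let S := OfBN.sys (Equiv.refl P.S) cs hcs h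
  have h4 := Sys.isSolvable_stab S hth hgd
    (isSolvable_stabilizer hB x) (fun j _ => hR hN M cs hcs j x)
  have hfix : ∀ g, g ∈ C ↔ τ g = g := fun g => by rw [hC]; exact Iff.rfl
  subst hcent
  refine ⟨⟨_, _, Tw.gsys S hth hp2⟩, ?_, ?_⟩
  · obtain ⟨R, hR⟩ := Tw.exists_sylow S hth hp2 hgd
    refine ⟨R, ?_⟩
    rw [hR]
    exact Tw.isSolvable_normalizer S (fun g hg hn => Tw.sq_smul_Res S hth hp2 hgd hg hn)
      (fun g hg hn c hc hcx => Tw.conj_smul_Res S hth hp2 hgd hg hn hc hcx) h4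
  · intro N hNn hodd
    have hcard : Nat.card ↥(N.map t.cent.subtype) = Nat.card ↥N :=
      (Nat.card_congr (N.equivMapOfInjective _ t.cent.subtype_injective).toEquiv).symm
    obtain ⟨k1, k2⟩ := fix_of_split hp2 h τ hτ (X := N.map t.cent.subtype)
      (by rintro _ ⟨x, -, rfl⟩; exact (hfix _).1 x.2)
      (by
        rintro g hg _ ⟨x, hx, rfl⟩
        exact ⟨⟨g, (hfix g).2 hg⟩ * x * ⟨g, (hfix g).2 hg⟩⁻¹, hNn.conj_mem x hx _, rfl⟩)
      (by rw [hcard]; exact hodd)
    rw [hcard] at k1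
    refine ⟨k1, fun v hv x hx => Subtype.ext ?_⟩
    obtain ⟨n, hn⟩ := hv
    exact k2 v ((hfix _).1 v.2) ⟨n, by rw [← Subgroup.coe_pow, hn, Subgroup.coe_one]⟩ x ⟨x, hx, rfl⟩

/-- the centraliser of an involutory automorphism is `Gated` -/
theorem gated {K : Type*} [Group K] [Finite K] {p : ℕ} [hp : Fact p.Prime] (hp2 : p ≠ 2)
    (h : HasGoodSplit p K) (τ : K ≃* K) (hτ : ∀ g, τ (τ g) = g) : Gated p ↥(Reduce.fixSub τ) := by
  obtain ⟨P, U, _, h⟩ := h
  exact gated_of_allGood hp2 h.toSplit h.solv h.allGood τ hτ _ rfl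

/-- `X` is `A_m` modulo its centre, of order prime to `p` -/
structure AltCov (p m : ℕ) (X : Type*) [Group X] : Prop where
  cen : ¬ p ∣ Nat.card (center X)
  alt : Nonempty ((X ⧸ center X) ≃* alternatingGroup (Fin m))

theorem AltCov.congr {p m : ℕ} {X Y : Type*} [Group X] [Group Y] (h : AltCov p m X) (e : X ≃* Y) :
    AltCov p m Y := by
  obtain ⟨h1, ⟨f⟩⟩ := h
  have h2 : Nat.card (center X) = Nat.card (center Y) := Nat.card_congr (Subgroup.centerCongr e).toEquiv
  refine ⟨by rwa [← h2], ⟨(QuotientGroup.congr (center X) (center Y) e ?_).symm.trans f⟩⟩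
  ext y
  constructor
  · rintro ⟨x, hx, rfl⟩
    rw [mem_center_iff]
    intro z
    have h3 := mem_center_iff.1 hx (e.symm z)
    have h4 := congrArg e h3
    rw [map_mul, map_mul, MulEquiv.apply_symm_apply] at h4
    exact h4
  · intro hy
    refine ⟨e.symm y, ?_, e.apply_symm_apply y⟩
    change e.symm y ∈ center X
    rw [mem_center_iff]
    intro z
    have h3 := mem_center_iff.1 hy (e z)
    apply e.injective
    rw [map_mul, map_mul, MulEquiv.apply_symm_apply]
    exact h3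

theorem altCov_of_equiv {p m : ℕ} [hp : Fact p.Prime] (hm : 4 ≤ m) {X : Type*} [Group X]
    (e : X ≃* alternatingGroup (Fin m)) : AltCov p m X := by
  have hc : center (alternatingGroup (Fin m)) = ⊥ := by
    rw [eq_bot_iff]
    intro x hx
    have h1 : (x : Equiv.Perm (Fin m)) = 1 := CycLab.eq_one_of_comm hm fun σ hσ => by
      have := mem_center_iff.1 hx ⟨σ, hσ⟩
      exact (congrArg Subtype.val this).symm
    exact Subgroup.mem_bot.2 (Subtype.ext h1)
  refine AltCov.congr ?_ e.symm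
  refine ⟨?_, ⟨?_⟩⟩
  · rw [hc, Subgroup.card_bot]
    exact hp.out.not_dvd_one
  · exact (QuotientGroup.quotientMulEquivOfEq hc).trans QuotientGroup.quotientBot

theorem altCov_of_double {p m : ℕ} (hp2 : 2 < p) {X : Type*} [Group X]
    (h : IsNonsplitDoubleCover X ↥(alternatingGroup (Fin m))) : AltCov p m X :=
  ⟨by rw [h.1]; exact fun h => absurd (Nat.le_of_dvd (by norm_num) h) (by omega), h.2.1⟩

/-- transport of a `2`-component along an isomorphism -/
theorem exists_comp {p m : ℕ} {C C' : Type*} [Group C] [Group C'] [Finite C] (ε : C ≃* C')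
    {J : Subgroup C} (hJ : IsPComponent 2 J) (hA : AltCov p m (↥J ⧸ oddCore ↥J)) :
    ∃ J' : Subgroup C', IsPComponent 2 J' ∧ AltCov p m (↥J' ⧸ oddCore ↥J') := by
  refine ⟨J.map ε.toMonoidHom, SignalizersComponents.PLayerAut.isPComponent_map_equiv 2 ε hJ, ?_⟩
  let f : ↥J ≃* ↥(J.map ε.toMonoidHom) := ε.subgroupMap J
  exact hA.congr (QuotientGroup.congr _ _ f (Cores.map_equiv_pPrimeCore f 2))

/-- the order of the small Ree groups is not divisible by 16 -/
theorem ree {L : Type*} [Group L] (hL : Cfsg.Lie.IsoRee L) : Finite L ∧ ¬ 16 ∣ Nat.card L := by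
  obtain ⟨F, _, _, m, hm, hF, ⟨e⟩⟩ := hL
  obtain ⟨u, huH, hu1, hu2⟩ := Cfsg.Agent.S1157.exists_involution hF
  obtain ⟨-, hS⟩ := Cfsg.Agent.S1152.result hF u huH hu1 hu2
  have hfin : Finite ↥(Cfsg.Lie.twistedG2 F (3 ^ m)) := inferInstance
  have hfinL : Finite L := Finite.of_equiv _ e.symm.toEquiv
  have hfac : Fact (Nat.Prime 2) := ⟨Nat.prime_two⟩
  refine ⟨hfinL, fun h16 => ?_⟩
  rw [Nat.card_congr e.toEquiv] at h16
  obtain ⟨S⟩ := (inferInstance : Nonempty (Sylow 2 ↥(Cfsg.Lie.twistedG2 F (3 ^ m))))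
  obtain ⟨h8, -⟩ := hS S
  have h1 : 2 ^ 4 ∣ Nat.card (S : Subgroup ↥(Cfsg.Lie.twistedG2 F (3 ^ m))) :=
    S.pow_dvd_card_of_pow_dvd_card (by norm_num; exact h16)
  rw [h8] at h1
  norm_num at h1

theorem sixteen_dvd {m : ℕ} (hm : 8 ≤ m) : 16 ∣ Nat.card (alternatingGroup (Fin m)) := by
  have : Nontrivial (Fin m) := Fin.nontrivial_iff_two_le.2 (by omega)
  have h1 : 2 * Nat.card (alternatingGroup (Fin m)) = m.factorial := by
    rw [Nat.card_eq_fintype_card, two_mul_card_alternatingGroup, Fintype.card_perm, Fintype.card_fin]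
  have h2 : Nat.factorial 8 ∣ m.factorial := Nat.factorial_dvd_factorial hm
  have h3 : (32 : ℕ) ∣ Nat.factorial 8 := by decide
  have h4 : 2 * 16 ∣ 2 * Nat.card (alternatingGroup (Fin m)) := by rw [h1]; exact h3.trans h2
  exact Nat.dvd_of_mul_dvd_mul_left (by norm_num) h4

/-- `A_m` is a section -/
theorem AltCov.dvd {p m : ℕ} {C : Type*} [Group C] [Finite C] {J : Subgroup C}
    (hA : AltCov p m (↥J ⧸ oddCore ↥J)) : Nat.card (alternatingGroup (Fin m)) ∣ Nat.card C := by
  obtain ⟨f⟩ := hA.alt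
  rw [← Nat.card_congr f.toEquiv]
  exact ((Subgroup.card_quotient_dvd_card _).trans (Subgroup.card_quotient_dvd_card _)).trans
    (Subgroup.card_subgroup_dvd_card J)

/-- the fixed points of a transported automorphism -/
def fixEquiv {K K' : Type*} [Group K] [Group K'] (e : K ≃* K') (τ : K ≃* K) :
    ↥(Reduce.fixSub τ) ≃* ↥(Reduce.fixSub ((e.symm.trans τ).trans e)) where
  toFun x := ⟨e x, by
    change e (τ (e.symm (e x))) = e x
    rw [e.symm_apply_apply]
    exact congrArg e x.2⟩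
  invFun y := ⟨e.symm y, by
    change τ (e.symm y) = e.symm y
    have h := y.2
    change e (τ (e.symm y)) = y at h
    rw [← e.eq_symm_apply] at h
    exact h⟩
  left_inv x := Subtype.ext (e.symm_apply_apply _)
  right_inv y := Subtype.ext (e.apply_symm_apply _)
  map_mul' x y := Subtype.ext (map_mul e _ _)

/-- **THEOREM NoAlt** for `p ≥ 5`. -/
theorem noAlt {p : ℕ} (hp5 : 5 ≤ p) {K : Type*} [Group K] [IsSimpleGroup K] (hK : IsLieTypeChar p K)
    (τ : K ≃* K) (hτ : ∀ g, τ (τ g) = g) {C : Type*} [Group C] [Finite C] (ε : C ≃* ↥(Reduce.fixSub τ))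
    {m : ℕ} (hm : 8 ≤ m) {J : Subgroup C} (hJ : IsPComponent 2 J)
    (hA : AltCov p m (↥J ⧸ oddCore ↥J)) : False := by
  rcases exists_good_model (by omega) hK with ⟨K₀, _, _, _, _, h, ⟨e⟩⟩ | hR
  · obtain ⟨J', hJ', hA'⟩ := exists_comp (ε.trans (fixEquiv e τ)) hJ hA
    have hg := gated (by omega) h ((e.symm.trans τ).trans e) (fun g => by
      change e (τ (e.symm (e (τ (e.symm g))))) = g
      rw [e.symm_apply_apply, hτ, e.apply_symm_apply])
    exact hg.false hp5 (by omega) hJ' hA'.cen hA'.alt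
  · obtain ⟨_, h16⟩ := ree hR
    apply h16
    refine (sixteen_dvd hm).trans (hA.dvd.trans ?_)
    rw [Nat.card_congr ε.toEquiv]
    exact Subgroup.card_subgroup_dvd_card _

end Cfsg.Agent.H289.NoAlt
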