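import Mathlib
import Cfsg.Agent.S0144
import Cfsg.Agent.Schreier.Basic
import Cfsg.Agent.Schreier.Tools

/-!
# Perfect groups preserving a quadratic map with few zeros on an elementary abelian group of order at most 16
-/

set_option autoImplicit false

namespace Cfsg.Agent.H289.QuadPerf

open Cfsg.Agent.Schreier.Basic Cfsg.Agent.Schreier.Tools

/-- fixed points of an automorphism of prime order on an invariant set -/
theorem ncard_modEq {W : Type*} [Group W] [Finite W] (δ : MulAut W) (r : ℕ) (hr : r.Prime) (hδ : δ ^ r = 1)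
    (T : Set W) (hT : ∀ w ∈ T, δ w ∈ T) : T.ncard ≡ (T ∩ {w | δ w = w}).ncard [MOD r] := by
  classical
  have : Fact r.Prime := ⟨hr⟩
  have := Fintype.ofFinite W
  let f : Function.End T := fun w => ⟨δ w, hT w w.2⟩
  have hpow : ∀ (n : ℕ) (w : T), (((f ^ n : Function.End T) w : T) : W) = (δ ^ n) w := by
    intro n
    induction n with
    | zero => intro w; rfl
    | succ n ih =>
      intro w
      rw [pow_succ', pow_succ', MulAut.mul_apply, ← ih w]
      rfl
  have hf : f ^ r ^ 1 = 1 := by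
    funext w
    apply Subtype.ext
    rw [pow_one, hpow, hδ]
    rfl
  have h1 := Equiv.Perm.card_fixedPoints_modEq hf
  rw [← Nat.card_eq_fintype_card, ← Nat.card_eq_fintype_card] at h1
  have h2 : Nat.card f.fixedPoints = (T ∩ {w | δ w = w}).ncard := by
    rw [← Nat.card_coe_set_eq]
    refine Nat.card_congr ⟨fun x => ⟨x.1.1, x.1.2, congrArg Subtype.val x.2⟩,
      fun x => ⟨⟨x.1, x.2.1⟩, Subtype.ext x.2.2⟩, fun x => rfl, fun x => rfl⟩
  rw [h2, Nat.card_coe_set_eq] at h1
  exact h1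

/-- a quadratic map `s : W → V` of elementary abelian 2-groups -/
structure QM {W V : Type*} [Group W] [Group V] (s : W → V) : Prop where
  w2 : ∀ w : W, w * w = 1
  v2 : ∀ v : V, v * v = 1
  bil : ∀ x y z : W, s (x * y * z) * s (x * y) * s z = (s (x * z) * s x * s z) * (s (y * z) * s y * s z)

variable {W V : Type*} [Group W] [Group V] {s : W → V}

theorem comm_of_two {A : Type*} [Group A] (h : ∀ a : A, a * a = 1) (a b : A) : a * b = b * a := by
  have h1 := h (a * b)
  have ha := h a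
  have hb := h b
  calc a * b = a * (a * b * (a * b)) * b := by rw [h1, mul_one]
    _ = (a * a) * (b * a) * (b * b) := by group
    _ = b * a := by rw [ha, hb, one_mul, mul_one]

theorem QM.map_one (h : QM s) : s 1 = 1 := by
  have h1 := h.bil 1 1 1
  simp only [mul_one] at h1
  have h2 := h.v2 (s 1)
  rw [h2, one_mul] at h1
  rw [h2] at h1
  exact h1

theorem mul_mem_of_index_two {A : Type*} [Group A] {K : Subgroup A} (hK : K.index = 2) {a b : A} :
    a * b ∈ K ↔ (a ∈ K ↔ b ∈ K) := Subgroup.mul_mem_iff_of_index_two hK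

/-- **No quadratic map to a group of order 2 without zeros in dimension 3.** -/
theorem QM.exists_mem (h : QM s) (K : Subgroup V) (hK : K.index = 2) (x y z : W)
    (hx : x ≠ 1) (hy : y ≠ 1) (hz : z ≠ 1) (hxy : x * y ≠ 1) (hxz : x * z ≠ 1) (hyz : y * z ≠ 1)
    (hxyz : x * y * z ≠ 1) : ∃ w : W, w ∈ ({x, y, z, x * y, x * z, y * z, x * y * z} : Set W) ∧ w ≠ 1 ∧ s w ∈ K := by
  by_contra hcon
  push Not at hcon
  have key := h.bil x y z
  have e1 := hcon x (by simp) hx
  have e2 := hcon y (by simp) hy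
  have e3 := hcon z (by simp) hz
  have e4 := hcon (x * y) (by simp) hxy
  have e5 := hcon (x * z) (by simp) hxz
  have e6 := hcon (y * z) (by simp) hyz
  have e7 := hcon (x * y * z) (by simp) hxyz
  have h1 : s (x * y * z) * s (x * y) * s z ∉ K := by
    rw [mul_mem_of_index_two hK, mul_mem_of_index_two hK]
    tauto
  rw [key] at h1
  apply h1
  rw [mul_mem_of_index_two hK, mul_mem_of_index_two hK, mul_mem_of_index_two hK, mul_mem_of_index_two hK,
    mul_mem_of_index_two hK]
  tauto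

/-- three independent elements in a subgroup of order at least 8 -/
theorem exists_three [Finite W] (h2 : ∀ w : W, w * w = 1) (U : Subgroup W) (hU : 8 ≤ Nat.card U) :
    ∃ x ∈ U, ∃ y ∈ U, ∃ z ∈ U, x ≠ 1 ∧ y ≠ 1 ∧ z ≠ 1 ∧ x * y ≠ 1 ∧ x * z ≠ 1 ∧ y * z ≠ 1 ∧ x * y * z ≠ 1 := by
  classical
  have hinv : ∀ a b : W, a * b = 1 → a = b := by
    intro a b hab
    calc a = a * (b * b) := by rw [h2, mul_one]
      _ = b := by rw [← mul_assoc, hab, one_mul]
  have hcard : ∀ S : Set W, S.ncard < 8 → ∃ u ∈ U, u ∉ S := by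
    intro S hS
    by_contra hcon
    push Not at hcon
    have h3 : (U : Set W) ⊆ S := hcon
    have h4 := Set.ncard_le_ncard h3 (Set.toFinite _)
    rw [← Nat.card_coe_set_eq] at h4
    have h5 : Nat.card (U : Set W) = Nat.card U := rfl
    omega
  obtain ⟨x, hxU, hx⟩ := hcard {1} (by simp)
  obtain ⟨y, hyU, hy⟩ := hcard {1, x} (lt_of_le_of_lt (Set.ncard_insert_le _ _) (by simp))
  obtain ⟨z, hzU, hz⟩ := hcard {1, x, y, x * y} (by
    refine lt_of_le_of_lt (Set.ncard_insert_le _ _) ?_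
    have h1 := Set.ncard_insert_le x ({y, x * y} : Set W)
    have h2 := Set.ncard_insert_le y ({x * y} : Set W)
    rw [Set.ncard_singleton] at h2
    omega)
  simp only [Set.mem_singleton_iff, Set.mem_insert_iff, not_or] at hx hy hz
  refine ⟨x, hxU, y, hyU, z, hzU, hx, hy.1, hz.1, ?_, ?_, ?_, ?_⟩
  · exact fun h => hy.2 (hinv _ _ h).symm
  · exact fun h => hz.2.1 (hinv _ _ h).symm
  · exact fun h => hz.2.2.1 (hinv _ _ h).symm
  · exact fun h => hz.2.2.2 (hinv _ _ h).symm

theorem pow_two_card {A : Type*} [Group A] [Finite A] (h : ∀ a : A, a * a = 1) (U : Subgroup A) :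
    ∃ n, Nat.card U = 2 ^ n := by
  have : Fact (Nat.Prime 2) := ⟨Nat.prime_two⟩
  have h1 : IsPGroup 2 U := fun u => ⟨1, Subtype.ext (by
    rw [pow_one, Subgroup.coe_pow, sq, h, Subgroup.coe_one])⟩
  exact IsPGroup.iff_card.1 h1

/-- the fixed points as a subgroup -/
def fixSub (δ : MulAut W) : Subgroup W where
  carrier := {w | δ w = w}
  mul_mem' := by
    intro a b ha hb
    show δ (a * b) = a * b
    rw [map_mul, ha, hb]
  one_mem' := by simp
  inv_mem' := by
    intro a ha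
    show δ a⁻¹ = a⁻¹
    rw [map_inv, ha]

theorem mem_fixSub {δ : MulAut W} {w : W} : w ∈ fixSub δ ↔ δ w = w := Iff.rfl

section main

variable [Finite W] [Finite V]

/-- the commutator `[W, δ]` as a subgroup, for `W` abelian -/
def comSub (h2 : ∀ w : W, w * w = 1) (δ : MulAut W) : Subgroup W where
  carrier := {u | ∃ w, u = w * δ w}
  mul_mem' := by
    rintro _ _ ⟨a, rfl⟩ ⟨b, rfl⟩
    refine ⟨a * b, ?_⟩
    rw [map_mul, mul_assoc a b, ← mul_assoc b, comm_of_two h2 b (δ a)]
    group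
  one_mem' := ⟨1, by simp⟩
  inv_mem' := by
    rintro _ ⟨a, rfl⟩
    refine ⟨a⁻¹, ?_⟩
    rw [map_inv, mul_inv_rev, comm_of_two h2]

theorem mem_comSub {h2 : ∀ w : W, w * w = 1} {δ : MulAut W} {u : W} :
    u ∈ comSub h2 δ ↔ ∃ w, u = w * δ w := Iff.rfl

theorem card_comSub (h2 : ∀ w : W, w * w = 1) (δ : MulAut W) :
    Nat.card (comSub h2 δ) * Nat.card (fixSub δ) = Nat.card W := by
  let f : W →* W :=
    { toFun := fun w => w * δ w
      map_one' := by simp
      map_mul' := fun a b => by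
        rw [map_mul, mul_assoc a b, ← mul_assoc b, comm_of_two h2 b (δ a)]
        group }
  have h3 : f.range = comSub h2 δ := by
    ext u
    constructor
    · rintro ⟨w, rfl⟩; exact ⟨w, rfl⟩
    · rintro ⟨w, rfl⟩; exact ⟨w, rfl⟩
  have h4 : f.ker = fixSub δ := by
    ext w
    rw [MonoidHom.mem_ker, mem_fixSub]
    show w * δ w = 1 ↔ _
    constructor
    · intro h
      calc δ w = w * w * δ w := by rw [h2, one_mul]
        _ = w := by rw [mul_assoc, h, mul_one]
    · intro h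
      rw [h, h2]
  rw [← h3, ← h4, ← Subgroup.index_ker]
  exact f.ker.index_mul_card

theorem comSub_inf (h2 : ∀ w : W, w * w = 1) (δ : MulAut W) (r : ℕ) (hr : Odd r) (hδ : δ ^ r = 1) (u : W)
    (hu : u ∈ comSub h2 δ) (hf : δ u = u) : u = 1 := by
  obtain ⟨w, rfl⟩ := hu
  set u := w * δ w with hu
  have h3 : δ w = w * u := by rw [hu, ← mul_assoc, h2, one_mul]
  have h4 : ∀ n : ℕ, (δ ^ n) w = w * u ^ n := by
    intro n
    induction n with
    | zero => simp
    | succ n ih =>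
      rw [pow_succ', MulAut.mul_apply, ih, map_mul, map_pow, hf, h3, pow_succ']
      group
  have h5 := h4 r
  rw [hδ, MulAut.one_apply] at h5
  have h6 : u ^ r = 1 := by
    have := h5.symm
    rwa [mul_eq_left] at this
  obtain ⟨k, hk⟩ := hr
  rw [hk, pow_succ, pow_mul, sq, h2, one_pow, one_mul] at h6
  exact h6

theorem comSub_map (h2 : ∀ w : W, w * w = 1) (δ : MulAut W) {u : W}
    (hu : u ∈ comSub h2 δ) : δ u ∈ comSub h2 δ := by
  obtain ⟨w, rfl⟩ := hu
  exact ⟨δ w, by rw [map_mul]⟩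

/-- orders of automorphisms of prime order and their fixed points -/
theorem fix_cases (h2 : ∀ w : W, w * w = 1) (hW : Nat.card W ≤ 16) (δ : MulAut W) (r : ℕ) (hr : r.Prime)
    (hδ : orderOf δ = r) : r = 2 ∨ (r = 3 ∧ Nat.card (fixSub δ) ≤ 4) ∨
      (r = 5 ∧ Nat.card (fixSub δ) = 1 ∧ Nat.card W = 16) ∨ (r = 7 ∧ Nat.card (comSub h2 δ) = 8) := by
  have hδr : δ ^ r = 1 := by rw [← hδ]; exact pow_orderOf_eq_one δ
  have h1 := ncard_modEq δ r hr hδr Set.univ (fun _ _ => Set.mem_univ _)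
  rw [Set.univ_inter, Set.ncard_univ] at h1
  have h3 : ({w | δ w = w} : Set W).ncard = Nat.card (fixSub δ) := by
    rw [← Nat.card_coe_set_eq]; rfl
  rw [h3] at h1
  obtain ⟨n, hn⟩ := pow_two_card h2 (⊤ : Subgroup W)
  rw [Subgroup.card_top] at hn
  obtain ⟨j, hj⟩ := pow_two_card h2 (fixSub δ)
  obtain ⟨i, hi⟩ := pow_two_card h2 (comSub h2 δ)
  have hc := card_comSub h2 δ
  have hne : i ≠ 0 := by
    rintro rfl
    rw [pow_zero] at hi
    have h4 : comSub h2 δ = ⊥ := Subgroup.card_eq_one.1 hi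
    have h5 : δ = 1 := by
      ext w
      have h6 : w * δ w ∈ comSub h2 δ := ⟨w, rfl⟩
      rw [h4, Subgroup.mem_bot] at h6
      rw [MulAut.one_apply]
      calc δ w = w * w * δ w := by rw [h2, one_mul]
        _ = w := by rw [mul_assoc, h6, mul_one]
    rw [h5, orderOf_one] at hδ
    rw [← hδ] at hr
    exact Nat.not_prime_one hr
  rw [hn, hi, hj, ← pow_add] at hc
  have hij : i + j = n := Nat.pow_right_injective le_rfl hc
  have hn4 : n ≤ 4 := by
    rw [hn] at hW
    by_contra hlt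
    have : 2 ^ 5 ≤ 2 ^ n := Nat.pow_le_pow_right (by norm_num) (by omega)
    omega
  rw [hn, hj] at h1
  have h4 := (Nat.modEq_iff_dvd' (Nat.pow_le_pow_right (by norm_num) (by omega : j ≤ n))).1 h1.symm
  rw [hj, hi, hn]
  have h5 : 2 ^ n - 2 ^ j = 2 ^ j * (2 ^ i - 1) := by
    rw [← hij, pow_add, Nat.mul_sub, mul_one, mul_comm]
  rw [h5] at h4
  rcases (Nat.Prime.dvd_mul hr).1 h4 with h6 | h6
  · left
    exact (Nat.prime_dvd_prime_iff_eq hr Nat.prime_two).1 (hr.dvd_of_dvd_pow h6)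
  · right
    have hi4 : i ≤ 4 := by omega
    have hi14 : i = 1 ∨ i = 2 ∨ i = 3 ∨ i = 4 := by omega
    rcases hi14 with rfl | rfl | rfl | rfl
    · norm_num at h6
      exact absurd (h6 ▸ hr) Nat.not_prime_one
    · norm_num at h6
      left
      refine ⟨(Nat.prime_dvd_prime_iff_eq hr Nat.prime_three).1 h6, ?_⟩
      have : j ≤ 2 := by omega
      calc 2 ^ j ≤ 2 ^ 2 := Nat.pow_le_pow_right (by norm_num) this
        _ = 4 := by norm_num
    · norm_num at h6
      right; right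
      exact ⟨(Nat.prime_dvd_prime_iff_eq hr (by norm_num)).1 h6, by norm_num⟩
    · have hj0 : j = 0 := by omega
      have hn' : n = 4 := by omega
      subst hj0
      subst hn'
      have h7 : r ∣ 3 * 5 := by simpa using h6
      rcases (Nat.Prime.dvd_mul hr).1 h7 with h8 | h8
      · left
        exact ⟨(Nat.prime_dvd_prime_iff_eq hr Nat.prime_three).1 h8, by norm_num⟩
      · right; left
        exact ⟨(Nat.prime_dvd_prime_iff_eq hr Nat.prime_five).1 h8, by norm_num, by norm_num⟩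

/-- `s ∘ δ = s` and `δ` of order 7 is impossible. -/
theorem QM.no_seven (h : QM s) (hW : Nat.card W ≤ 16) (hz : ∃ c, ∀ w, s w = 1 → w = 1 ∨ w = c)
    (δ : MulAut W) (hδ : orderOf δ = 7) (hs : ∀ w, s (δ w) = s w) : False := by
  have hδr : δ ^ 7 = 1 := by rw [← hδ]; exact pow_orderOf_eq_one δ
  have hp7 : Nat.Prime 7 := by norm_num
  have hU : Nat.card (comSub h.w2 δ) = 8 := by
    rcases fix_cases h.w2 hW δ 7 hp7 hδ with h1 | h1 | h1 | h1
    · norm_num at h1
    · norm_num at h1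
    · norm_num at h1
    · exact h1.2
  set U := comSub h.w2 δ with hUdef
  -- a set `T ⊆ U` invariant under `δ` without `1` has 0 or 7 elements
  have key : ∀ v : V, ({w | w ∈ U ∧ w ≠ 1 ∧ s w = v} : Set W).Nonempty → ∀ w ∈ U, w ≠ 1 → s w = v := by
    intro v hv
    set T : Set W := {w | w ∈ U ∧ w ≠ 1 ∧ s w = v} with hT
    have h1 := ncard_modEq δ 7 hp7 hδr T (fun w hw => ⟨comSub_map h.w2 δ hw.1,
      fun h => hw.2.1 (by simpa using h), by rw [hs]; exact hw.2.2⟩)
    have h2 : T ∩ {w | δ w = w} = ∅ := by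
      rw [Set.eq_empty_iff_forall_notMem]
      rintro w ⟨hw, hw2⟩
      exact hw.2.1 (comSub_inf h.w2 δ 7 (by decide) hδr w hw.1 hw2)
    rw [h2, Set.ncard_empty] at h1
    have h3 : 7 ∣ T.ncard := (Nat.modEq_zero_iff_dvd).1 h1
    have h4 : T ⊆ (U : Set W) \ {1} := fun w hw => ⟨hw.1, hw.2.1⟩
    have h5 : ((U : Set W) \ {1}).ncard = 7 := by
      rw [Set.ncard_diff_singleton_of_mem (one_mem U), ← Nat.card_coe_set_eq]
      have : Nat.card (U : Set W) = Nat.card U := rfl
      omega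
    have h6 : 0 < T.ncard := (Set.ncard_pos (Set.toFinite _)).2 hv
    have h7 : T = (U : Set W) \ {1} := by
      apply Set.eq_of_subset_of_ncard_le h4
      rw [h5]
      exact Nat.le_of_dvd h6 h3
    intro w hw hw1
    have h8 : w ∈ T := by rw [h7]; exact ⟨hw, hw1⟩
    exact h8.2.2
  obtain ⟨x, hxU, y, hyU, z, hzU, hx, hy, hz', hxy, hxz, hyz, hxyz⟩ := exists_three h.w2 U (by omega)
  set v := s x with hv
  have hall := key v ⟨x, hxU, hx, rfl⟩
  have hv1 : v ≠ 1 := by
    intro h1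
    obtain ⟨c, hc⟩ := hz
    have h2 := (hc x (by rw [← hv, h1])).resolve_left hx
    have h3 := (hc y (by rw [hall y hyU hy, h1])).resolve_left hy
    exact hxy (by rw [h2, ← h3, h.w2])
  have hb := h.bil x y z
  rw [hall x hxU hx, hall y hyU hy, hall z hzU hz', hall _ (mul_mem hxU hyU) hxy,
    hall _ (mul_mem hxU hzU) hxz, hall _ (mul_mem hyU hzU) hyz, hall _ (mul_mem (mul_mem hxU hyU) hzU) hxyz,
    h.v2, one_mul, h.v2] at hb
  exact hv1 hb

theorem zpowers_of_card_four {V : Type*} [Group V] [Finite V] (h2 : ∀ v : V, v * v = 1) (hV : Nat.card V = 4)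
    (v : V) (hv : v ≠ 1) : (Subgroup.zpowers v).index = 2 := by
  have h1 : orderOf v = 2 := orderOf_eq_prime (by rw [sq, h2]) hv
  have h3 := (Subgroup.zpowers v).card_mul_index
  rw [Nat.card_zpowers, h1, hV] at h3
  omega

theorem mem_zpowers_of_two {V : Type*} [Group V] (h2 : ∀ v : V, v * v = 1) (v w : V)
    (h : w ∈ Subgroup.zpowers v) : w = 1 ∨ w = v := by
  obtain ⟨k, rfl⟩ := Subgroup.mem_zpowers_iff.1 h
  rcases Int.even_or_odd' k with ⟨m, rfl | rfl⟩
  · left
    rw [zpow_mul, zpow_ofNat, sq, h2, one_zpow]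
  · right
    rw [zpow_add, zpow_mul, zpow_ofNat, sq, h2, one_zpow, one_mul, zpow_one]

/-- an element of order 5: the values of `s` outside 1 are taken 5 times each -/
theorem QM.five (h : QM s) (hW : Nat.card W ≤ 16) (hV : Nat.card V ≤ 4)
    (hz : ∃ c, ∀ w, s w = 1 → w = 1 ∨ w = c)
    (δ : MulAut W) (hδ : orderOf δ = 5) (hs : ∀ w, s (δ w) = s w) :
    Nat.card V = 4 ∧ (∀ w, s w = 1 → w = 1) ∧ ∀ v : V, v ≠ 1 → ({w | s w = v} : Set W).ncard = 5 := by
  have hδr : δ ^ 5 = 1 := by rw [← hδ]; exact pow_orderOf_eq_one δ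
  have hp5 : Nat.Prime 5 := by norm_num
  obtain ⟨hfix, hW16⟩ : Nat.card (fixSub δ) = 1 ∧ Nat.card W = 16 := by
    rcases fix_cases h.w2 hW δ 5 hp5 hδ with h1 | h1 | h1 | h1
    · norm_num at h1
    · norm_num at h1
    · exact h1.2
    · norm_num at h1
  have hfix' : ∀ w, δ w = w → w = 1 := by
    intro w hw
    have h1 : fixSub δ = ⊥ := Subgroup.card_eq_one.1 hfix
    have h2 : w ∈ fixSub δ := hw
    rw [h1, Subgroup.mem_bot] at h2
    exact h2
  -- invariant sets without `1` have order divisible by 5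
  have h5 : ∀ T : Set W, (∀ w ∈ T, δ w ∈ T) → (1 : W) ∉ T → 5 ∣ T.ncard := by
    intro T hT h1T
    have h1 := ncard_modEq δ 5 hp5 hδr T hT
    have h2 : T ∩ {w | δ w = w} = ∅ := by
      rw [Set.eq_empty_iff_forall_notMem]
      rintro w ⟨hw, hw2⟩
      exact h1T (hfix' w hw2 ▸ hw)
    rw [h2, Set.ncard_empty] at h1
    exact (Nat.modEq_zero_iff_dvd).1 h1
  have hz1 : ∀ w, s w = 1 → w = 1 := by
    obtain ⟨c, hc⟩ := hz
    intro w hw
    by_contra hw1
    have h1 := h5 {w | s w = 1 ∧ w ≠ 1} (fun w hw => ⟨by rw [hs]; exact hw.1,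
      fun h => hw.2 (by simpa using h)⟩) (fun h => h.2 rfl)
    have h2 : ({w | s w = 1 ∧ w ≠ 1} : Set W) ⊆ {c} := by
      rintro w ⟨hw, hw2⟩
      exact (hc w hw).resolve_left hw2
    have h3 := Set.ncard_le_ncard h2 (Set.toFinite _)
    rw [Set.ncard_singleton] at h3
    have h4 : 0 < ({w | s w = 1 ∧ w ≠ 1} : Set W).ncard := (Set.ncard_pos (Set.toFinite _)).2 ⟨w, hw, hw1⟩
    have h6 := Nat.le_of_dvd h4 h1
    omega
  obtain ⟨x, -, y, -, z, -, hx, hy, hz', hxy, hxz, hyz, hxyz⟩ := exists_three h.w2 (⊤ : Subgroup W)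
    (by rw [Subgroup.card_top]; omega)
  have hmem : ∀ K : Subgroup V, K.index = 2 → ∃ w : W, w ≠ 1 ∧ s w ∈ K := by
    intro K hK
    obtain ⟨w, -, hw, hw2⟩ := h.exists_mem K hK x y z hx hy hz' hxy hxz hyz hxyz
    exact ⟨w, hw, hw2⟩
  obtain ⟨m, hm⟩ := pow_two_card h.v2 (⊤ : Subgroup V)
  rw [Subgroup.card_top] at hm
  have hm2 : m ≤ 2 := by
    rw [hm] at hV
    by_contra hlt
    have : 2 ^ 3 ≤ 2 ^ m := Nat.pow_le_pow_right (by norm_num) (by omega)
    omega
  have hV4 : Nat.card V = 4 := by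
    have : m = 0 ∨ m = 1 ∨ m = 2 := by omega
    rcases this with rfl | rfl | rfl
    · exfalso
      rw [pow_zero] at hm
      have : Subsingleton V := (Nat.card_eq_one_iff_unique.1 hm).1
      exact hx (hz1 x (Subsingleton.elim _ _))
    · exfalso
      obtain ⟨w, hw, hw2⟩ := hmem ⊥ (by rw [Subgroup.index_bot, hm, pow_one])
      exact hw (hz1 w (Subgroup.mem_bot.1 hw2))
    · rw [hm]; norm_num
  refine ⟨hV4, hz1, ?_⟩
  -- every value is taken
  have hge : ∀ v : V, v ≠ 1 → 5 ∣ ({w | s w = v} : Set W).ncard ∧ 5 ≤ ({w | s w = v} : Set W).ncard := by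
    intro v hv
    have h1 := h5 {w | s w = v} (fun w hw => by rw [Set.mem_setOf_eq, hs]; exact hw)
      (fun h1 => hv (by rw [Set.mem_setOf_eq, h.map_one] at h1; exact h1.symm))
    refine ⟨h1, ?_⟩
    obtain ⟨w, hw, hw2⟩ := hmem (Subgroup.zpowers v) (zpowers_of_card_four h.v2 hV4 v hv)
    have h3 : s w = v := (mem_zpowers_of_two h.v2 v _ hw2).resolve_left (fun h => hw (hz1 w h))
    exact Nat.le_of_dvd ((Set.ncard_pos (Set.toFinite _)).2 ⟨w, h3⟩) h1
  -- the sum is 15
  classical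
  have hft := Fintype.ofFinite V
  have hftW := Fintype.ofFinite W
  have hsum : ∑ v : V, ({w | s w = v} : Set W).ncard = 16 := by
    rw [← hW16]
    have h1 : ∀ v : V, ({w | s w = v} : Set W).ncard = (Finset.univ.filter (fun w : W => s w = v)).card := by
      intro v
      rw [← Set.ncard_coe_finset]
      congr 1
      ext w
      simp
    simp_rw [h1]
    rw [Nat.card_eq_fintype_card, ← Finset.card_univ]
    exact (Finset.card_eq_sum_card_fiberwise (fun x _ => Finset.mem_univ (s x))).symm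
  have h1 : ({w | s w = 1} : Set W).ncard = 1 := by
    rw [Set.ncard_eq_one]
    exact ⟨1, by ext w; exact ⟨fun h => hz1 w h, fun h' => by
      rw [Set.mem_singleton_iff] at h'; rw [h']; exact h.map_one⟩⟩
  rw [← Finset.add_sum_erase _ _ (Finset.mem_univ (1 : V)), h1] at hsum
  have hc : (Finset.univ.erase (1 : V)).card = 3 := by
    rw [Finset.card_erase_of_mem (Finset.mem_univ _), Finset.card_univ, ← Nat.card_eq_fintype_card, hV4]
  intro v hv
  have hvm : v ∈ Finset.univ.erase (1 : V) := Finset.mem_erase.2 ⟨hv, Finset.mem_univ _⟩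
  rw [← Finset.add_sum_erase _ _ hvm] at hsum
  have h6 : 2 * 5 ≤ ∑ x ∈ (Finset.univ.erase (1 : V)).erase v, ({w | s w = x} : Set W).ncard := by
    have h7 : ((Finset.univ.erase (1 : V)).erase v).card = 2 := by
      rw [Finset.card_erase_of_mem hvm, hc]
    calc 2 * 5 = ∑ x ∈ (Finset.univ.erase (1 : V)).erase v, 5 := by rw [Finset.sum_const, h7, smul_eq_mul]
      _ ≤ _ := Finset.sum_le_sum (fun x hx => (hge x (Finset.mem_erase.1 (Finset.mem_erase.1 hx).2).1).2)
  have h8 := (hge v hv).2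
  omega

theorem QM.no_fifteen (h : QM s) (hW : Nat.card W ≤ 16) (hV : Nat.card V ≤ 4)
    (hz : ∃ c, ∀ w, s w = 1 → w = 1 ∨ w = c)
    (δ τ : MulAut W) (hδ : orderOf δ = 5) (hs : ∀ w, s (δ w) = s w)
    (hτ : orderOf τ = 3) (hsτ : ∀ w, s (τ w) = s w) : False := by
  obtain ⟨hV4, hz1, h5⟩ := h.five hW hV hz δ hδ hs
  have hτr : τ ^ 3 = 1 := by rw [← hτ]; exact pow_orderOf_eq_one τ
  have hfix : Nat.card (fixSub τ) ≤ 4 := by
    rcases fix_cases h.w2 hW τ 3 Nat.prime_three hτ with h1 | h1 | h1 | h1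
    · norm_num at h1
    · exact h1.2
    · norm_num at h1
    · norm_num at h1
  have h2 : ∀ v : V, v ≠ 1 → 2 ≤ ({w | s w = v} ∩ {w | τ w = w} : Set W).ncard := by
    intro v hv
    have h1 := ncard_modEq τ 3 Nat.prime_three hτr {w | s w = v}
      (fun w hw => by rw [Set.mem_setOf_eq, hsτ]; exact hw)
    rw [h5 v hv] at h1
    unfold Nat.ModEq at h1
    omega
  classical
  have hft := Fintype.ofFinite V
  have hftW := Fintype.ofFinite W
  have hsum : ∑ v : V, ({w | s w = v} ∩ {w | τ w = w} : Set W).ncard = Nat.card (fixSub τ) := by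
    have h1 : ∀ v : V, ({w | s w = v} ∩ {w | τ w = w} : Set W).ncard =
        ((Finset.univ.filter (fun w : W => τ w = w)).filter (fun w : W => s w = v)).card := by
      intro v
      rw [← Set.ncard_coe_finset]
      congr 1
      ext w
      simp [and_comm]
    simp_rw [h1]
    have h2 : Nat.card (fixSub τ) = (Finset.univ.filter (fun w : W => τ w = w)).card := by
      rw [← Set.ncard_coe_finset, ← Nat.card_coe_set_eq]
      congr 1
      simp only [Finset.coe_filter, Finset.mem_univ, true_and]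
      rfl
    rw [h2]
    exact (Finset.card_eq_sum_card_fiberwise (fun x _ => Finset.mem_univ (s x))).symm
  have h1 : 1 ≤ ({w | s w = 1} ∩ {w | τ w = w} : Set W).ncard :=
    (Set.ncard_pos (Set.toFinite _)).2 ⟨1, h.map_one, by simp⟩
  rw [← Finset.add_sum_erase _ _ (Finset.mem_univ (1 : V))] at hsum
  have hc : (Finset.univ.erase (1 : V)).card = 3 := by
    rw [Finset.card_erase_of_mem (Finset.mem_univ _), Finset.card_univ, ← Nat.card_eq_fintype_card, hV4]
  have h6 : 3 * 2 ≤ ∑ x ∈ Finset.univ.erase (1 : V), ({w | s w = x} ∩ {w | τ w = w} : Set W).ncard := by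
    calc 3 * 2 = ∑ x ∈ Finset.univ.erase (1 : V), 2 := by rw [Finset.sum_const, hc, smul_eq_mul]
      _ ≤ _ := Finset.sum_le_sum (fun x hx => h2 x (Finset.mem_erase.1 hx).1)
  omega

/-- **A perfect group preserving a quadratic map with at most one zero `≠ 1`, `|W| ≤ 16`, `|V| ≤ 4`, is trivial.** -/
theorem QM.eq_bot (h : QM s) (hW : Nat.card W ≤ 16) (hV : Nat.card V ≤ 4)
    (hz : ∃ c, ∀ w, s w = 1 → w = 1 ∨ w = c) (D : Subgroup (MulAut W)) (hD : ⁅D, D⁆ = D)
    (hs : ∀ φ ∈ D, ∀ w, s (φ w) = s w) : D = ⊥ := by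
  classical
  have hcauchy : ∀ r : ℕ, r.Prime → r ∣ Nat.card D → ∃ δ ∈ D, orderOf δ = r := by
    intro r hr hd
    have : Fact r.Prime := ⟨hr⟩
    obtain ⟨δ, hδ⟩ := exists_prime_orderOf_dvd_card' r hd
    exact ⟨δ, δ.2, by rw [Subgroup.orderOf_coe, hδ]⟩
  have hprimes : ∀ r : ℕ, r.Prime → r ∣ Nat.card D → r = 2 ∨ r = 3 ∨ r = 5 := by
    intro r hr hd
    obtain ⟨δ, hδD, hδ⟩ := hcauchy r hr hd
    rcases fix_cases h.w2 hW δ r hr hδ with h1 | h1 | h1 | h1
    · exact Or.inl h1
    · exact Or.inr (Or.inl h1.1)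
    · exact Or.inr (Or.inr h1.1)
    · exfalso
      obtain ⟨rfl, -⟩ := h1
      exact h.no_seven hW hz δ hδ (hs δ hδD)
  have hpos : Nat.card D ≠ 0 := Nat.card_pos.ne'
  apply eq_bot_of_perfect_of_solvable hD
  by_cases h3 : 3 ∣ Nat.card D
  · have h5 : ¬ 5 ∣ Nat.card D := by
      intro h5
      obtain ⟨δ, hδD, hδ⟩ := hcauchy 5 Nat.prime_five h5
      obtain ⟨τ, hτD, hτ⟩ := hcauchy 3 Nat.prime_three h3
      exact h.no_fifteen hW hV hz δ τ hδ (hs δ hδD) hτ (hs τ hτD)
    refine Cfsg.Agent.S0144.result 2 3 ((Nat.card D).factorization 2) ((Nat.card D).factorization 3)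
      Nat.prime_two Nat.prime_three ?_
    conv_lhs => rw [← Nat.prod_factorization_pow_eq_self hpos]
    rw [Finsupp.prod_of_support_subset (s := {2, 3})]
    · rw [Finset.prod_pair (by norm_num)]
    · intro r hr
      rw [Nat.support_factorization, Nat.mem_primeFactors] at hr
      rcases hprimes r hr.1 hr.2.1 with rfl | rfl | rfl
      · simp
      · simp
      · exact absurd hr.2.1 h5
    · intro i _
      simp
  · refine Cfsg.Agent.S0144.result 2 5 ((Nat.card D).factorization 2) ((Nat.card D).factorization 5)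
      Nat.prime_two Nat.prime_five ?_
    conv_lhs => rw [← Nat.prod_factorization_pow_eq_self hpos]
    rw [Finsupp.prod_of_support_subset (s := {2, 5})]
    · rw [Finset.prod_pair (by norm_num)]
    · intro r hr
      rw [Nat.support_factorization, Nat.mem_primeFactors] at hr
      rcases hprimes r hr.1 hr.2.1 with rfl | rfl | rfl
      · simp
      · exact absurd hr.2.1 h3
      · simp
    · intro i _
      simp

end main

end Cfsg.Agent.H289.QuadPerf
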