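import Cfsg.Agent.TypeLFive.LThreeDef
import Cfsg.Agent.Dichotomy.CoreTools
import Cfsg.Agent.Lib.KleinGen
import Cfsg.Agent.Cit.Quo

/-!
The core of S3119: a weakly embedded subgroup of a group with a normal subgroup `K` of odd index
which satisfies the facts of `TypeLFive.LThreeDef` (`L₃(q)`, `U₃(q)`, `M₁₁`) has no non-trivial
normal subgroup of odd order.
-/

set_option autoImplicit false

namespace Cfsg.Agent.H289.WeakEmb

open Cfsg Cfsg.Agent Cfsg.Agent.TypeLFive.LThreeDef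

variable {X : Type*} [Group X]

theorem conj_pow_eq {c o n : X} (h : c * o * c⁻¹ = n * o) (hn : n * c = c * n) (i : ℕ) :
    c ^ i * o * (c ^ i)⁻¹ = n ^ i * o := by
  induction i with
  | zero => simp
  | succ i ih =>
    have h1 : c ^ (i + 1) * o * (c ^ (i + 1))⁻¹ = c * (c ^ i * o * (c ^ i)⁻¹) * c⁻¹ := by
      rw [pow_succ']
      group
    have h2 : c * n ^ i = n ^ i * c := (Commute.pow_right (show Commute c n from hn.symm) i).eq
    rw [h1, ih]
    calc c * (n ^ i * o) * c⁻¹ = (c * n ^ i) * o * c⁻¹ := by group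
      _ = n ^ i * (c * o * c⁻¹) := by rw [h2]; group
      _ = n ^ (i + 1) * o := by rw [h, pow_succ]; group

/-- A group element of odd order with `n ^ (2 ^ k) = 1` is trivial. -/
theorem eq_one_of_odd [Finite X] {O : Subgroup X} (hO : Odd (Nat.card O)) {n : X} (hn : n ∈ O)
    {k : ℕ} (h : n ^ (2 ^ k) = 1) : n = 1 := by
  have h1 : orderOf n ∣ Nat.card O := by
    have := orderOf_dvd_natCard (⟨n, hn⟩ : O)
    rwa [Subgroup.orderOf_mk] at this
  have h2 : orderOf n ∣ 2 ^ k := orderOf_dvd_of_pow_eq_one h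
  have h3 : Nat.Coprime (Nat.card O) (2 ^ k) := Nat.Coprime.pow_right k hO.coprime_two_right
  exact orderOf_eq_one_iff.1 (Nat.eq_one_of_dvd_coprimes h3 h1 h2)

section

variable [Finite X] (K : Subgroup X) [K.Normal] {p : ℕ} (hF : Facts ↥K p)
  {w : X} (hwK : w ∈ K) (hw1 : w ≠ 1) (hww : w * w = 1)
  {O : Subgroup X} (hO : Odd (Nat.card O)) (hOw : ∀ o ∈ O, o * w = w * o)
  (hOn : ∀ c, c * w = w * c → ∀ o ∈ O, c * o * c⁻¹ ∈ O)

include hF hwK hw1 hww hO hOw hOn

omit [K.Normal] in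
theorem central {n c : X} (hn : n ∈ O) (hnK : n ∈ K) (hc : c ∈ K) (hcw : c * w = w * c) :
    n * c = c * n := by
  have hw1' : (⟨w, hwK⟩ : ↥K) ≠ 1 := fun h => hw1 (congrArg Subtype.val h)
  have hww' : (⟨w, hwK⟩ : ↥K) * ⟨w, hwK⟩ = 1 := Subtype.ext hww
  have key := hF.cent ⟨w, hwK⟩ hw1' hww' (O.subgroupOf K) (by
      have h1 : Nat.card (O.subgroupOf K) ∣ Nat.card O := by
        have := Subgroup.card_comap_dvd_of_injective O K.subtype K.subtype_injective
        exact this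
      exact Odd.of_dvd_nat hO h1)
    (fun m hm => Subtype.ext (hOw m.1 (Subgroup.mem_subgroupOf.1 hm)))
    (fun g hg m hm => by
      rw [Subgroup.mem_subgroupOf] at hm ⊢
      exact hOn g.1 (congrArg Subtype.val hg) m.1 hm)
    ⟨n, hnK⟩ (Subgroup.mem_subgroupOf.2 hn) ⟨c, hc⟩ (Subtype.ext hcw)
  exact congrArg Subtype.val key

omit [Finite X] hF hwK hw1 hww hO hOw in
theorem comm_mem {o c : X} (ho : o ∈ O) (hc : c ∈ K) (hcw : c * w = w * c) :
    c * o * c⁻¹ * o⁻¹ ∈ O ∧ c * o * c⁻¹ * o⁻¹ ∈ K := by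
  refine ⟨O.mul_mem (hOn c hcw o ho) (O.inv_mem ho), ?_⟩
  have h1 : c * o * c⁻¹ * o⁻¹ = c * (o * c⁻¹ * o⁻¹) := by group
  rw [h1]
  exact K.mul_mem hc (‹K.Normal›.conj_mem _ (K.inv_mem hc) o)

theorem lemA {o c : X} (ho : o ∈ O) (hc : c ∈ K) (hcw : c * w = w * c) {k : ℕ}
    (hck : c ^ (2 ^ k) = 1) : o * c = c * o := by
  obtain ⟨h1, h2⟩ := comm_mem K hOn ho hc hcw
  have h3 := central K hF hwK hw1 hww hO hOw hOn h1 h2 hc hcw
  have h4 := conj_pow_eq (c := c) (o := o) (n := c * o * c⁻¹ * o⁻¹) (by group) h3 (2 ^ k)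
  rw [hck] at h4
  have h5 : (c * o * c⁻¹ * o⁻¹) ^ (2 ^ k) = 1 := by
    simpa using h4.symm
  have h6 := eq_one_of_odd hO h1 h5
  have h7 : c * o * c⁻¹ = o := by
    have := mul_inv_eq_one.1 h6
    exact this
  exact (mul_inv_eq_iff_eq_mul.1 h7).symm

theorem lemB {o : X} (ho : o ∈ O) {y : ↥K} (hy : y ∈ Y p (⟨w, hwK⟩ : ↥K)) :
    o * (y : X) = (y : X) * o := by
  have hw1' : (⟨w, hwK⟩ : ↥K) ≠ 1 := fun h => hw1 (congrArg Subtype.val h)
  have hww' : (⟨w, hwK⟩ : ↥K) * ⟨w, hwK⟩ = 1 := Subtype.ext hww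
  have hbot := hF.odd ⟨w, hwK⟩ hw1' hww' (O.subgroupOf K ⊓ Y p ⟨w, hwK⟩) inf_le_right (by
      have h1 : Nat.card (O.subgroupOf K) ∣ Nat.card O :=
        Subgroup.card_comap_dvd_of_injective O K.subtype K.subtype_injective
      exact Odd.of_dvd_nat hO ((Subgroup.card_dvd_of_le inf_le_left).trans h1))
    (fun g hg n hn => by
      refine ⟨?_, ?_⟩
      · have h1 : (n : X) ∈ O := Subgroup.mem_subgroupOf.1 hn.1
        have h2 := Y_le_cent hg
        exact Subgroup.mem_subgroupOf.2 (hOn g.1 (congrArg Subtype.val h2) n.1 h1)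
      · exact Subgroup.mul_mem _ (Subgroup.mul_mem _ hg hn.2) (Subgroup.inv_mem _ hg))
  refine Subgroup.closure_induction
    (p := fun (x : ↥K) _ => o * (x : X) = (x : X) * o) ?_ ?_ ?_ ?_ hy
  · rintro u ⟨hu1, hu2⟩
    have hc : (u : X) ∈ K := u.2
    have hcw : (u : X) * w = w * u := congrArg Subtype.val hu1
    obtain ⟨h1, h2⟩ := comm_mem K hOn ho hc hcw
    have h3 := central K hF hwK hw1 hww hO hOw hOn h1 h2 hc hcw
    have h4 := conj_pow_eq (c := (u : X)) (o := o) (n := u * o * (u : X)⁻¹ * o⁻¹) (by group) h3 p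
    have hup : (u : X) ^ p = 1 := congrArg Subtype.val hu2
    rw [hup] at h4
    have h5 : ((u : X) * o * (u : X)⁻¹ * o⁻¹) ^ p = 1 := by
      simpa using h4.symm
    have h6 : (⟨(u : X) * o * (u : X)⁻¹ * o⁻¹, h2⟩ : ↥K) ∈
        (O.subgroupOf K ⊓ Y p ⟨w, hwK⟩ : Subgroup ↥K) := by
      refine ⟨Subgroup.mem_subgroupOf.2 h1, mem_Y (Subtype.ext ?_) (Subtype.ext h5)⟩
      exact hOw _ h1
    rw [hbot, Subgroup.mem_bot] at h6
    have h7 : (u : X) * o * (u : X)⁻¹ * o⁻¹ = 1 := congrArg Subtype.val h6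
    exact (mul_inv_eq_iff_eq_mul.1 (mul_inv_eq_one.1 h7)).symm
  · simp
  · intro a b _ _ ha hb
    rw [Subgroup.coe_mul, ← mul_assoc, ha, mul_assoc, hb, mul_assoc]
  · intro a _ ha
    rw [Subgroup.coe_inv, mul_inv_eq_iff_eq_mul, mul_assoc, ha, inv_mul_cancel_left]

end

/-- An element of order a power of two lies in a normal subgroup of odd index. -/
theorem mem_of_odd_index [Finite X] (K : Subgroup X) [K.Normal] (hidx : Odd K.index) {x : X}
    {k : ℕ} (hx : x ^ (2 ^ k) = 1) : x ∈ K := by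
  rw [← QuotientGroup.eq_one_iff]
  have h1 : orderOf (x : X ⧸ K) ∣ 2 ^ k := orderOf_dvd_of_pow_eq_one (by
    rw [← QuotientGroup.mk_pow, hx, QuotientGroup.mk_one])
  have h2 : orderOf (x : X ⧸ K) ∣ K.index := by
    rw [Subgroup.index]
    exact orderOf_dvd_natCard _
  have h3 : Nat.Coprime K.index (2 ^ k) := Nat.Coprime.pow_right k hidx.coprime_two_right
  exact orderOf_eq_one_iff.1 (Nat.eq_one_of_dvd_coprimes h3 h2 h1)

theorem odd_sup [Finite X] {D O : Subgroup X} (hD : Odd (Nat.card D)) (hO : Odd (Nat.card O))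
    (hn : ∀ d ∈ D, ∀ o ∈ O, d * o * d⁻¹ ∈ O) : Odd (Nat.card ↥(D ⊔ O)) := by
  have h1 : D ⊔ O ≤ Subgroup.normalizer (O : Set X) := by
    refine sup_le (fun d hd => ?_) Subgroup.le_normalizer
    rw [Subgroup.mem_normalizer_iff]
    intro o
    refine ⟨fun ho => hn d hd o ho, fun ho => ?_⟩
    have := hn d⁻¹ (D.inv_mem hd) _ ho
    simpa [mul_assoc] using this
  have h2 : (O.subgroupOf (D ⊔ O)).Normal := Subgroup.normal_subgroupOf_iff_le_normalizer le_sup_right |>.2 h1
  have h3 : O.subgroupOf (D ⊔ O) ⊔ D.subgroupOf (D ⊔ O) = ⊤ := by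
    rw [← Subgroup.subgroupOf_sup le_sup_right le_sup_left, sup_comm, Subgroup.subgroupOf_self]
  have h4 := Lib.Cores.card_sup_dvd (O.subgroupOf (D ⊔ O)) (D.subgroupOf (D ⊔ O)) h2
  rw [h3, Subgroup.card_top, Nat.card_congr (Subgroup.subgroupOfEquivOfLe (le_sup_right : O ≤ D ⊔ O)).toEquiv,
    Nat.card_congr (Subgroup.subgroupOfEquivOfLe (le_sup_left : D ≤ D ⊔ O)).toEquiv] at h4
  exact Odd.of_dvd_nat (hO.mul hD) h4

theorem core [Finite X] (K : Subgroup X) [K.Normal] (hidx : Odd K.index) {p : ℕ} (hF : Facts ↥K p)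
    (hC : Subgroup.centralizer (K : Set X) = ⊥)
    (hE : ∀ w ∈ K, w ≠ 1 → w * w = 1 → ∃ t ∈ K, t ≠ 1 ∧ t * t = 1 ∧ t ≠ w ∧ t * w = w * t)
    (H : Subgroup X) (hev : ∃ y ∈ H, orderOf y = 2)
    (hcov : ∀ y ∈ H, orderOf y = 2 → ∀ c ∈ Subgroup.centralizer ({y} : Set X),
      ∃ h ∈ H ⊓ Subgroup.centralizer ({y} : Set X), ∃ o ∈ centralizerPPrimeCore 2 y, c = h * o)
    (W : Subgroup X) (hWn : ∀ h ∈ H, ∀ w ∈ W, h * w * h⁻¹ ∈ W)
    (hWo : Odd (Nat.card W)) : W = ⊥ := by
  have : Fact (Nat.Prime 2) := ⟨Nat.prime_two⟩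
  have ord : ∀ {y : X}, y ≠ 1 → y * y = 1 → orderOf y = 2 := fun {y} h1 h2 =>
    orderOf_eq_prime (by rw [pow_two]; exact h2) h1
  -- facts about `O_f`
  have hOodd : ∀ f : X, Odd (Nat.card (centralizerPPrimeCore 2 f)) := fun f => by
    have := Dichotomy.CoreTools.core_card 2 f
    rw [← Nat.not_even_iff_odd, even_iff_two_dvd]
    exact this
  have hOc : ∀ f : X, ∀ o ∈ centralizerPPrimeCore 2 f, o * f = f * o := fun f o ho =>
    Subgroup.mem_centralizer_singleton_iff.1 (Dichotomy.CoreTools.core_le 2 f ho)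
  have hOn : ∀ f c : X, c * f = f * c → ∀ o ∈ centralizerPPrimeCore 2 f,
      c * o * c⁻¹ ∈ centralizerPPrimeCore 2 f := fun f c hc o ho =>
    (Subgroup.mem_normalizer_iff.1 (Dichotomy.CoreTools.core_normalized 2 f
      (Subgroup.mem_centralizer_singleton_iff.2 hc)) o).1 ho
  -- `C_W(f) ≤ O_f`
  have hCW : ∀ f ∈ H, f ≠ 1 → f * f = 1 → W ⊓ Subgroup.centralizer {f} ≤ centralizerPPrimeCore 2 f := by
    intro f hfH hf1 hff
    have h1 : W ⊓ Subgroup.centralizer {f} ⊔ centralizerPPrimeCore 2 f ≤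
        centralizerPPrimeCore 2 f := by
      have h2 : Odd (Nat.card ↥(W ⊓ Subgroup.centralizer {f} ⊔ centralizerPPrimeCore 2 f)) := by
        refine odd_sup (Odd.of_dvd_nat hWo (Subgroup.card_dvd_of_le inf_le_left)) (hOodd f) ?_
        intro d hd o ho
        exact hOn f d (Subgroup.mem_centralizer_singleton_iff.1 hd.2) o ho
      refine Dichotomy.CoreTools.le_core 2 f (sup_le inf_le_right (Dichotomy.CoreTools.core_le 2 f)) ?_ ?_
      · intro c hc
        obtain ⟨h, hh, o, ho, rfl⟩ := hcov f hfH (ord hf1 hff) c hc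
        refine Subgroup.mul_mem _ ?_ ?_
        · have hhf := Subgroup.mem_centralizer_singleton_iff.1 hh.2
          have key : ∀ a : X, a ∈ H → a * f = f * a → ∀ x ∈ W ⊓ Subgroup.centralizer {f} ⊔ centralizerPPrimeCore 2 f,
              a * x * a⁻¹ ∈ W ⊓ Subgroup.centralizer {f} ⊔ centralizerPPrimeCore 2 f := by
            intro a haH haf x hx
            have h3 : W ⊓ Subgroup.centralizer {f} ⊔ centralizerPPrimeCore 2 f ≤
                (W ⊓ Subgroup.centralizer {f} ⊔ centralizerPPrimeCore 2 f).comap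
                  (MulAut.conj a).toMonoidHom := by
              refine sup_le ?_ ?_
              · intro y hy
                refine Subgroup.mem_sup_left ⟨hWn a haH y hy.1, ?_⟩
                have := Subgroup.mem_centralizer_singleton_iff.1 hy.2
                refine Subgroup.mem_centralizer_singleton_iff.2 ?_
                show a * y * a⁻¹ * f = f * (a * y * a⁻¹)
                have h5 : a⁻¹ * f = f * a⁻¹ := by
                  rw [inv_mul_eq_iff_eq_mul, ← mul_assoc, haf, mul_inv_cancel_right]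
                calc a * y * a⁻¹ * f = a * y * (a⁻¹ * f) := by group
                  _ = a * (y * f) * a⁻¹ := by rw [h5]; group
                  _ = (a * f) * y * a⁻¹ := by rw [this]; group
                  _ = f * (a * y * a⁻¹) := by rw [haf]; group
              · intro y hy
                exact Subgroup.mem_sup_right (hOn f a haf y hy)
            exact h3 hx
          rw [Subgroup.mem_normalizer_iff]
          intro x
          refine ⟨fun hx => key h hh.1 hhf x hx, fun hx => ?_⟩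
          have := key h⁻¹ (H.inv_mem hh.1) (by
            rw [inv_mul_eq_iff_eq_mul, ← mul_assoc, hhf, mul_inv_cancel_right]) _ hx
          simpa [mul_assoc] using this
        · exact Subgroup.le_normalizer (Subgroup.mem_sup_right ho)
      · rw [← even_iff_two_dvd, Nat.not_even_iff_odd]
        exact h2
    exact le_sup_left.trans h1
  obtain ⟨w, hwH, hw2⟩ := hev
  have hw1 : w ≠ 1 := by
    rintro rfl
    simp at hw2
  have hww : w * w = 1 := by
    rw [← pow_two, ← hw2, pow_orderOf_eq_one]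
  have memK : ∀ {y : X}, y * y = 1 → y ∈ K := fun {y} hy =>
    mem_of_odd_index K hidx (k := 1) (by rw [pow_one, pow_two]; exact hy)
  have hwK := memK hww
  obtain ⟨t, htK, ht1, htt, htw, htc⟩ := hE w hwK hw1 hww
  -- `t ∈ H`
  have htH : t ∈ H := by
    obtain ⟨h, hh, o, ho, e⟩ := hcov w hwH hw2 t (Subgroup.mem_centralizer_singleton_iff.2 htc)
    have h1 : o * t = t * o := lemA K hF hwK hw1 hww (hOodd w) (hOc w) (hOn w) ho htK htc (k := 1)
      (by rw [pow_one, pow_two]; exact htt)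
    have h2 : h = t * o⁻¹ := by rw [e]; group
    have h3 : Commute t o⁻¹ := (show Commute t o from h1.symm).inv_right
    obtain ⟨m, hm⟩ := hOodd w
    have h4 : o ^ (2 * m + 1) = 1 := by
      have : (⟨o, ho⟩ : centralizerPPrimeCore 2 w) ^ Nat.card (centralizerPPrimeCore 2 w) = 1 :=
        pow_card_eq_one'
      rw [hm] at this
      exact congrArg Subtype.val this
    have h5 : h ^ (2 * m + 1) = t := by
      rw [h2, h3.mul_pow, inv_pow, h4, inv_one, mul_one, pow_succ, pow_mul, pow_two, htt, one_pow, one_mul]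
    rw [← h5]
    exact H.pow_mem hh.1 _
  have htw1 : w * t ≠ 1 := by
    intro h
    apply htw
    rw [← mul_one w, ← htt, ← mul_assoc, h, one_mul]
  have htwH : w * t ∈ H := H.mul_mem hwH htH
  have htwK : w * t ∈ K := K.mul_mem hwK htK
  have htww : (w * t) * (w * t) = 1 := by
    calc (w * t) * (w * t) = w * (t * w) * t := by group
      _ = (w * w) * (t * t) := by rw [htc]; group
      _ = 1 := by rw [hww, htt, one_mul]
  -- `w`, `t` commute with `C_W(f)`, `f ∈ {w, t, w t}`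
  have hfix : ∀ f ∈ H, f ∈ K → f ≠ 1 → f * f = 1 → w * f = f * w → t * f = f * t →
      W ⊓ Subgroup.centralizer {f} ≤ Subgroup.centralizer {w} ⊓ Subgroup.centralizer {t} := by
    intro f hfH hfK hf1 hff hwf htf x hx
    have h1 := hCW f hfH hf1 hff hx
    refine ⟨Subgroup.mem_centralizer_singleton_iff.2 ?_, Subgroup.mem_centralizer_singleton_iff.2 ?_⟩
    · exact lemA K hF hfK hf1 hff (hOodd f) (hOc f) (hOn f) h1 hwK hwf (k := 1)
        (by rw [pow_one, pow_two]; exact hww)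
    · exact lemA K hF hfK hf1 hff (hOodd f) (hOc f) (hOn f) h1 htK htf (k := 1)
        (by rw [pow_one, pow_two]; exact htt)
  have hw_wt : w * (w * t) = (w * t) * w := by rw [mul_assoc, htc]
  have ht_wt : t * (w * t) = (w * t) * t := by rw [← mul_assoc, htc]
  have hW1 : W ≤ Subgroup.centralizer {w} ⊓ Subgroup.centralizer {t} :=
    Lib.KleinGen.le_of_klein W _ hWo w t hww htt htc.symm (hWn w hwH) (hWn t htH)
      (hfix w hwH hwK hw1 hww rfl htc) (hfix t htH htK ht1 htt htc.symm rfl)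
      (hfix (w * t) htwH htwK htw1 htww hw_wt ht_wt)
  have hWf : ∀ f ∈ H, ∀ hfK : f ∈ K, f ≠ 1 → f * f = 1 → (∀ x ∈ W, x * f = f * x) →
      ∀ x ∈ W, ∀ y ∈ Y p (⟨f, hfK⟩ : ↥K), x * (y : X) = (y : X) * x := by
    intro f hfH hfK hf1 hff hcomm x hx y hy
    have h1 := hCW f hfH hf1 hff ⟨hx, Subgroup.mem_centralizer_singleton_iff.2 (hcomm x hx)⟩
    exact lemB K hF hfK hf1 hff (hOodd f) (hOc f) (hOn f) h1 hy
  have hxw : ∀ x ∈ W, x * w = w * x := fun x hx => Subgroup.mem_centralizer_singleton_iff.1 (hW1 hx).1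
  have hxt : ∀ x ∈ W, x * t = t * x := fun x hx => Subgroup.mem_centralizer_singleton_iff.1 (hW1 hx).2
  have hxwt : ∀ x ∈ W, x * (w * t) = (w * t) * x := fun x hx => by
    rw [← mul_assoc, hxw x hx, mul_assoc, hxt x hx, mul_assoc]
  have hgen := hF.gen ⟨w, hwK⟩ ⟨t, htK⟩ (fun h => hw1 (congrArg Subtype.val h)) (Subtype.ext hww)
    (fun h => ht1 (congrArg Subtype.val h)) (Subtype.ext htt) (fun h => htw (congrArg Subtype.val h).symm)
    (Subtype.ext htc.symm)
  rw [eq_bot_iff, ← hC]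
  intro x hx
  rw [Subgroup.mem_centralizer_iff]
  intro k hk
  have h1 : (⊤ : Subgroup ↥K) ≤ (Subgroup.centralizer ({x} : Set X)).subgroupOf K := by
    rw [← hgen]
    refine sup_le (sup_le ?_ ?_) ?_
    · intro y hy
      exact Subgroup.mem_subgroupOf.2 (Subgroup.mem_centralizer_singleton_iff.2
        (hWf w hwH hwK hw1 hww hxw x hx y hy).symm)
    · intro y hy
      exact Subgroup.mem_subgroupOf.2 (Subgroup.mem_centralizer_singleton_iff.2
        (hWf t htH htK ht1 htt hxt x hx y hy).symm)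
    · intro y hy
      exact Subgroup.mem_subgroupOf.2 (Subgroup.mem_centralizer_singleton_iff.2
        (hWf (w * t) htwH htwK htw1 htww hxwt x hx y hy).symm)
  exact Subgroup.mem_centralizer_singleton_iff.1 (Subgroup.mem_subgroupOf.1 (h1 (Subgroup.mem_top (⟨k, hk⟩ : ↥K))))

end Cfsg.Agent.H289.WeakEmb
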